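import Cfsg.Agent.H414.QuatSec
import Cfsg.Agent.S0483

/-!
# Odd primes dividing the order of the solvable radical which are not adjacent to 2 (helper414)

* `AltL2 S` : `S ≅ A₇` or `S ≅ L₂(q)`, `q` odd;
* `structure_of_dvd_rad` : the structure theorem for `p ∣ |K|`.
-/

set_option autoImplicit false

namespace Cfsg.Agent.H414.Rad

open Subgroup Cfsg.Agent.H414.Adj Cfsg.Agent.H414.Good Cfsg.Agent.H414.Comp Cfsg.Agent.H414.QuatSec

/-- `S ≅ A₇` or `S ≅ L₂(q)`, `q` odd -/
def AltL2 (S : Type*) [Group S] : Prop :=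
  Nonempty (S ≃* alternatingGroup (Fin 7)) ∨
    (∃ (F : Type) (_ : Field F) (_ : Fintype F), Odd (Fintype.card F) ∧
      Nonempty (S ≃* Matrix.ProjectiveSpecialLinearGroup (Fin 2) F))

/-- **Simple groups with dihedral Sylow 2-subgroups.** -/
theorem altL2_of_dihedral {S : Type*} [Group S] [Finite S] [IsSimpleGroup S] (hc : ∃ a b : S, a * b ≠ b * a)
    (h2 : 2 ∣ Nat.card S) (Q : Sylow 2 S) (hQ : ∃ k : ℕ, 2 ≤ k ∧ Nonempty (↥(Q : Subgroup S) ≃* DihedralGroup k)) :
    AltL2 S := by
  obtain ⟨k, hk, hk'⟩ := hQ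
  have hperf : Group.IsPerfect S := by
    constructor
    rcases (inferInstance : (commutator S).Normal).eq_bot_or_eq_top with h | h
    · exfalso
      obtain ⟨a, b, hab⟩ := hc
      apply hab
      rw [← commutatorElement_eq_one_iff_mul_comm, ← Subgroup.mem_bot, ← h]
      exact Subgroup.commutator_mem_commutator (Subgroup.mem_top a) (Subgroup.mem_top b)
    · exact h
  have hcore : Cfsg.oddCore S = ⊥ := by
    have hn : (Cfsg.oddCore S).Normal := Cfsg.Agent.Lib.Cores.pPrimeCore_normal 2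
    rcases hn.eq_bot_or_eq_top with h | h
    · exact h
    · exfalso
      have h1 := Cfsg.Agent.Lib.Cores.pPrimeCore_coprime (G := S) 2
      change (Nat.card ↥(Cfsg.oddCore S)).Coprime 2 at h1
      rw [h, Subgroup.card_top, Nat.coprime_comm, Nat.prime_two.coprime_iff_not_dvd] at h1
      exact h1 h2
  have e : S ⧸ Cfsg.oddCore S ≃* S :=
    (QuotientGroup.quotientMulEquivOfEq hcore).trans QuotientGroup.quotientBot
  rcases Cfsg.Agent.S0483.result Q k hk hk' with ⟨F, i1, i2, h3, -, ⟨f⟩⟩ | ⟨⟨f⟩⟩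
  · exact Or.inr ⟨F, i1, i2, h3, ⟨e.symm.trans f⟩⟩
  · exact Or.inl ⟨e.symm.trans f⟩

/-- Dihedral groups of order `2 ^ n ≥ 4` contain commuting involutions. -/
theorem dihedral_four {k j : ℕ} (hk : 2 ≤ k) (hj : 2 * k = 2 ^ j) :
    ∃ a b : DihedralGroup k, orderOf a = 2 ∧ orderOf b = 2 ∧ a ≠ b ∧ Commute a b := by
  obtain ⟨m, rfl⟩ : ∃ m, k = 2 * m := by
    rcases j with _ | _ | j
    · rw [pow_zero] at hj
      omega
    · rw [zero_add, pow_one] at hj
      omega
    · refine ⟨2 ^ j, ?_⟩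
      rw [pow_succ, pow_succ] at hj
      omega
  have hm : 0 < m := by omega
  have hne : NeZero (2 * m) := ⟨by omega⟩
  have hmm : (m : ZMod (2 * m)) + (m : ZMod (2 * m)) = 0 := by
    have h1 : ((m + m : ℕ) : ZMod (2 * m)) = 0 := by
      rw [← two_mul]
      exact ZMod.natCast_self _
    rwa [Nat.cast_add] at h1
  have hm0 : (m : ZMod (2 * m)) ≠ 0 := by
    rw [Ne, ZMod.natCast_eq_zero_iff]
    intro hd
    have := Nat.le_of_dvd hm hd
    omega
  refine ⟨DihedralGroup.r (m : ZMod (2 * m)), DihedralGroup.sr 0, ?_, DihedralGroup.orderOf_sr 0, ?_, ?_⟩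
  · apply orderOf_eq_prime
    · rw [pow_two, DihedralGroup.r_mul_r, hmm]; rfl
    · intro h
      rw [DihedralGroup.one_def, DihedralGroup.r.injEq] at h
      exact hm0 h
  · intro h
    cases h
  · show DihedralGroup.r (m : ZMod (2 * m)) * DihedralGroup.sr 0 = DihedralGroup.sr 0 * DihedralGroup.r (m : ZMod (2 * m))
    rw [DihedralGroup.r_mul_sr, DihedralGroup.sr_mul_r, zero_sub, zero_add]
    congr 1
    rw [neg_eq_iff_add_eq_zero]
    exact hmm

/-- **The structure theorem, `p ∣ |K|`.** -/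
theorem structure_of_dvd_rad {G : Type*} [Group G] [Finite G] (K : Subgroup G) [K.Normal] [Nontrivial (G ⧸ K)]
    (hsol : ∀ M : Subgroup (G ⧸ K), M.Normal → Group.IsSolvable ↥M → M = ⊥) {p : ℕ} (hp : p.Prime) (hp2 : p ≠ 2)
    (hpK : p ∣ Nat.card ↥K) (h : ¬ ∃ x : G, orderOf x = 2 * p) :
    ∃ S : Subgroup (G ⧸ K), IsComp S ∧ S.Normal ∧ centralizer (S : Set (G ⧸ K)) = ⊥ ∧ AltL2 ↥S := by
  classical
  have h2' : Fact (Nat.Prime 2) := ⟨Nat.prime_two⟩
  obtain ⟨S, hS⟩ := exists_comp hsol
  have hsimple := hS.simple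
  have h2S := hS.two_dvd
  -- 2-subgroups
  have hsec : ∀ Q : Subgroup (G ⧸ K), IsPGroup 2 ↥Q → IsQD ↥Q := by
    intro Q hQ
    obtain ⟨T, -, hT, hTq⟩ := exists_isQ K hp hp2 hpK h Q hQ
    let f : ↥T →* ↥Q := ((QuotientGroup.mk' K).domRestrict T).codRestrict Q fun y => by
      rw [← hT]; exact ⟨y, y.2, rfl⟩
    refine hTq.quot f ?_
    rintro ⟨q, hq⟩
    rw [← hT] at hq
    obtain ⟨y, hy, rfl⟩ := hq
    exact ⟨⟨y, hy⟩, rfl⟩
  obtain ⟨Q⟩ : Nonempty (Sylow 2 ↥S) := inferInstance
  have hQ : IsQD ↥(Q : Subgroup ↥S) :=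
    (hsec ((Q : Subgroup ↥S).map S.subtype) (Q.isPGroup'.map _)).congr
      ((Q : Subgroup ↥S).equivMapOfInjective _ S.subtype_injective).symm
  have hD := dihedral_of_simple hS.noncomm h2S Q hQ
  -- commuting involutions of `S`
  obtain ⟨a, b, ha, hb, hab, hcab⟩ : ∃ a b : ↥S, orderOf a = 2 ∧ orderOf b = 2 ∧ a ≠ b ∧ Commute a b := by
    obtain ⟨k, hk, ⟨e⟩⟩ := hD
    obtain ⟨j, hj⟩ := Q.isPGroup'.exists_card_eq
    have hj' : 2 * k = 2 ^ j := by
      rw [← hj, Nat.card_congr e.toEquiv, DihedralGroup.nat_card]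
    obtain ⟨a, b, ha, hb, hab, hc⟩ := dihedral_four hk hj'
    refine ⟨(e.symm a : ↥(Q : Subgroup ↥S)), (e.symm b : ↥(Q : Subgroup ↥S)), ?_, ?_, ?_, ?_⟩
    · rw [Subgroup.orderOf_coe, MulEquiv.orderOf_eq, ha]
    · rw [Subgroup.orderOf_coe, MulEquiv.orderOf_eq, hb]
    · intro he
      exact hab (e.symm.injective (Subtype.ext he))
    · show ((e.symm a : ↥(Q : Subgroup ↥S)) : ↥S) * (e.symm b : ↥(Q : Subgroup ↥S)) =
        (e.symm b : ↥(Q : Subgroup ↥S)) * (e.symm a : ↥(Q : Subgroup ↥S))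
      rw [← Subgroup.coe_mul, ← Subgroup.coe_mul, ← map_mul, ← map_mul, hc.eq]
  -- no involution centralises `S`
  have hno : ∀ u : G ⧸ K, (∀ s ∈ S, Commute u s) → orderOf u ≠ 2 := by
    intro u hu hu2
    have huS : u ∉ S := by
      intro huS
      have h1 := hS.center huS hu
      rw [h1, orderOf_one] at hu2
      norm_num at hu2
    have hsq : ∀ {x : G ⧸ K}, orderOf x = 2 → x * x = 1 := by
      intro x hx
      have h1 := pow_orderOf_eq_one x
      rwa [hx, pow_two] at h1
    have ha2 : orderOf (a : G ⧸ K) = 2 := by rw [Subgroup.orderOf_coe, ha]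
    have hb2 : orderOf (b : G ⧸ K) = 2 := by rw [Subgroup.orderOf_coe, hb]
    have hab' : Commute (a : G ⧸ K) (b : G ⧸ K) := congrArg Subtype.val hcab.eq
    have hua := hu a a.2
    have hub := hu b b.2
    set E : Subgroup (G ⧸ K) := closure {(a : G ⧸ K), (b : G ⧸ K), u} with hE
    have haE : (a : G ⧸ K) ∈ E := subset_closure (by simp)
    have hbE : (b : G ⧸ K) ∈ E := subset_closure (by simp)
    have huE : u ∈ E := subset_closure (by simp)
    have hcomm : ∀ x ∈ E, ∀ y ∈ E, x * y = y * x := by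
      have h1 : ∀ x ∈ ({(a : G ⧸ K), (b : G ⧸ K), u} : Set (G ⧸ K)), ∀ y ∈ ({(a : G ⧸ K), (b : G ⧸ K), u} : Set (G ⧸ K)),
          x * y = y * x := by
        intro x hx y hy
        simp only [Set.mem_insert_iff, Set.mem_singleton_iff] at hx hy
        rcases hx with rfl | rfl | rfl <;> rcases hy with rfl | rfl | rfl
        · rfl
        · exact hab'.eq
        · exact hua.eq.symm
        · exact hab'.eq.symm
        · rfl
        · exact hub.eq.symm
        · exact hua.eq
        · exact hub.eq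
        · rfl
      intro x hx y hy
      have h2 : E ≤ centralizer (E : Set (G ⧸ K)) := by
        rw [hE, Subgroup.closure_le]
        intro z hz
        rw [SetLike.mem_coe, Subgroup.mem_centralizer_iff]
        intro w hw
        induction hw using Subgroup.closure_induction with
        | mem w hw => exact h1 w hw z hz
        | one => rw [one_mul, mul_one]
        | mul v w _ _ hv hw => rw [mul_assoc, hw, ← mul_assoc, hv, mul_assoc]
        | inv v _ hv => rw [inv_mul_eq_iff_eq_mul, ← mul_assoc, hv, mul_inv_cancel_right]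
      exact (Subgroup.mem_centralizer_iff.1 (h2 hy) x hx)
    have hexp : ∀ x ∈ E, x * x = 1 := by
      intro x hx
      induction hx using Subgroup.closure_induction with
      | mem x hx =>
        simp only [Set.mem_insert_iff, Set.mem_singleton_iff] at hx
        rcases hx with rfl | rfl | rfl
        · exact hsq ha2
        · exact hsq hb2
        · exact hsq hu2
      | one => rw [one_mul]
      | mul v w hv hw h3 h4 =>
        have h5 : Commute v w := hcomm v hv w hw
        rw [h5.symm.mul_mul_mul_comm, h3, h4, one_mul]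
      | inv v _ h3 =>
        rw [← mul_inv_rev, h3, inv_one]
    have hEp : IsPGroup 2 ↥E := by
      intro x
      refine ⟨1, ?_⟩
      apply Subtype.ext
      rw [pow_one, pow_two]
      exact hexp x x.2
    have h4 := (hsec E hEp).card_le_four fun x => Subtype.ext (hexp x x.2)
    -- five elements
    have h5 : ({1, (a : G ⧸ K), (b : G ⧸ K), (a : G ⧸ K) * b, u} : Finset (G ⧸ K)).card ≤ Nat.card ↥E := by
      have hfin : Finite (G ⧸ K) := inferInstance
      rw [← SetLike.coe_sort_coe, Nat.card_coe_set_eq, ← Set.ncard_coe_finset]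
      apply Set.ncard_le_ncard _ (Set.toFinite _)
      intro x hx
      simp only [Finset.coe_insert, Finset.coe_singleton, Set.mem_insert_iff, Set.mem_singleton_iff] at hx
      rcases hx with rfl | rfl | rfl | rfl | rfl
      · exact one_mem E
      · exact haE
      · exact hbE
      · exact mul_mem haE hbE
      · exact huE
    have ha1 : (a : G ⧸ K) ≠ 1 := by
      intro h1
      rw [h1, orderOf_one] at ha2
      norm_num at ha2
    have hb1 : (b : G ⧸ K) ≠ 1 := by
      intro h1
      rw [h1, orderOf_one] at hb2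
      norm_num at hb2
    have hab1 : (a : G ⧸ K) ≠ b := fun h1 => hab (Subtype.ext h1)
    have hab2 : (a : G ⧸ K) * b ≠ 1 := by
      intro h1
      apply hab1
      rw [mul_eq_one_iff_eq_inv] at h1
      rw [h1, inv_eq_iff_mul_eq_one]
      exact hsq hb2
    have hab3 : (a : G ⧸ K) ≠ a * b := by
      intro h1
      exact hb1 (mul_eq_left.1 h1.symm)
    have hab4 : (b : G ⧸ K) ≠ a * b := by
      intro h1
      exact ha1 (mul_eq_right.1 h1.symm)
    have hu' : ∀ x ∈ S, x ≠ u := fun x hx h1 => huS (h1 ▸ hx)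
    rw [Finset.card_insert_of_notMem, Finset.card_insert_of_notMem, Finset.card_insert_of_notMem,
      Finset.card_insert_of_notMem, Finset.card_singleton] at h5
    · omega
    · simp only [Finset.mem_singleton]
      exact hu' _ (mul_mem a.2 b.2)
    · simp only [Finset.mem_insert, Finset.mem_singleton, not_or]
      exact ⟨hab4, hu' _ b.2⟩
    · simp only [Finset.mem_insert, Finset.mem_singleton, not_or]
      exact ⟨hab1, hab3, hu' _ a.2⟩
    · simp only [Finset.mem_insert, Finset.mem_singleton, not_or]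
      exact ⟨ha1.symm, hb1.symm, hab2.symm, hu' _ (one_mem S)⟩
  -- `S` is normal
  have hn : S.Normal := by
    constructor
    intro s hs g
    rcases hS.conj g with h1 | h1
    · exact h1 s hs
    · exfalso
      have ha2 : orderOf (a : G ⧸ K) = 2 := by rw [Subgroup.orderOf_coe, ha]
      apply hno (g * a * g⁻¹) (fun t ht => h1 a a.2 t ht)
      have h2 : orderOf ((MulAut.conj g) (a : G ⧸ K)) = orderOf (a : G ⧸ K) := MulEquiv.orderOf_eq _ _
      rw [MulAut.conj_apply] at h2
      rw [h2, ha2]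
  refine ⟨S, hS, hn, ?_, altL2_of_dihedral hS.noncomm h2S Q hD⟩
  apply hsol _ inferInstance
  apply Cfsg.Agent.S0205.result
  rw [← Nat.not_even_iff_odd]
  intro he
  obtain ⟨u, hu⟩ := exists_prime_orderOf_dvd_card' 2 he.two_dvd
  refine hno u (fun s hs => ?_) (by rw [Subgroup.orderOf_coe, hu])
  exact (Subgroup.mem_centralizer_iff.1 u.2 s hs).symm

end Cfsg.Agent.H414.Rad
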