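import Cfsg.Prelude.Def_LieTypeChar
import Cfsg.Agent.S0243
import Cfsg.Agent.S0245
import Cfsg.Agent.S0246
import Cfsg.Agent.S0280
import Cfsg.Agent.S0292
import Cfsg.Agent.S0293
import Cfsg.Agent.S0294
import Cfsg.Agent.S1059
import Cfsg.Agent.S1062
import Cfsg.Agent.S1063
import Cfsg.Agent.S1064
import Cfsg.Agent.S1065
import Cfsg.Agent.S1066
import Cfsg.Agent.S1067
import Cfsg.Agent.S1068
import Cfsg.Agent.S1069
import Cfsg.Agent.S1163

/-!
# The orders of the groups of Lie type as products of factors `q ^ i ∓ 1` (helper414)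

* `Fac`, `Fac.val` : the factors `q ^ i - 1`, `q ^ i + 1`, `q ^ 8 + q ^ 4 + 1`;
* `Shape r c` : `d c = q ^ N ∏ factors`, `q = r ^ f`; `shape_of_lie` : `c = |S|`, `S` of Lie type of characteristic `r`;
* `Rel r u v`, `Shape.dvd` : `u ∣ |S|` implies `v ∣ |S|`;
* `Shape.dvd_of_sq` : `v ∣ r ^ 2 - 1` implies `v ∣ |S|` (`r, v ≥ 5`).
-/

set_option autoImplicit false

namespace Cfsg.Agent.H414.LieShape

open Cfsg

/-- factors of the orders -/
inductive Fac
  | sub (i : ℕ) | add (i : ℕ) | tri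

/-- the value of a factor -/
def Fac.val (q : ℕ) : Fac → ℕ
  | .sub i => q ^ i - 1
  | .add i => q ^ i + 1
  | .tri => q ^ 8 + q ^ 4 + 1

/-- the shape of the order `c` of a group of Lie type of characteristic `r` -/
structure ShapeD (r c f d N : ℕ) (l : List Fac) : Prop where
  f_pos : 1 ≤ f
  eq : d * c = (r ^ f) ^ N * (l.map (Fac.val (r ^ f))).prod
  den : ∀ v : ℕ, v.Prime → 5 ≤ v → v ∣ d → v ∣ c
  two : 5 ≤ r → Fac.sub 2 ∈ l
  mix : ∀ i j : ℕ, Fac.add i ∈ l → Fac.add j ∈ l → Odd i → Even j → i = 3 ∧ Fac.sub 1 ∈ l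
  chr : r ∣ c

/-- the shape of the order of a group of Lie type of characteristic `r` -/
def Shape (r c : ℕ) : Prop := ∃ (f d N : ℕ) (l : List Fac), ShapeD r c f d N l

theorem den_small {d c : ℕ} {m : ℕ} (hm : d ∣ m) (hm0 : 0 < m) (hm5 : m < 5) : ∀ v : ℕ, v.Prime → 5 ≤ v → v ∣ d → v ∣ c := by
  intro v _ hv5 hvd
  exfalso
  have := Nat.le_of_dvd hm0 (hvd.trans hm)
  omega

/-- `d c = X Y`, `d ∣ X`, `v ∣ Y`. -/
theorem dvd_of_split {d c X Y v : ℕ} (hd : 0 < d) (h : d * c = X * Y) (hX : d ∣ X) (hv : v ∣ Y) : v ∣ c := by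
  obtain ⟨e, rfl⟩ := hX
  rw [mul_assoc] at h
  rw [Nat.eq_of_mul_eq_mul_left hd h]
  exact hv.mul_left e

theorem cop_sub {q k : ℕ} (hq : 1 ≤ q) (hk : 1 ≤ k) : (q ^ k - 1).Coprime q := by
  have h1 : 1 ≤ q ^ k := Nat.one_le_pow _ _ hq
  have h2 : (q ^ k - 1).Coprime (q ^ k) := by
    have := Nat.coprime_self_sub_left h1 (n := q ^ k) (m := 1)
    rw [this]
    exact Nat.coprime_one_left _
  exact Nat.Coprime.coprime_dvd_right (dvd_pow_self q (by omega)) h2

theorem cop_add {q k : ℕ} (hk : 1 ≤ k) : (q ^ k + 1).Coprime q := by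
  have h2 : (q ^ k + 1).Coprime (q ^ k) := by
    rw [Nat.coprime_comm]
    exact (Nat.coprime_self_add_right).2 (Nat.coprime_one_right _)
  exact Nat.Coprime.coprime_dvd_right (dvd_pow_self q (by omega)) h2

theorem chr_of {r f d c N P : ℕ} (hr : r.Prime) (hf : 1 ≤ f) (hN : 1 ≤ N) (hd : d.Coprime (r ^ f))
    (h : d * c = (r ^ f) ^ N * P) : r ∣ c := by
  have h1 : r ∣ d * c := by
    rw [h]
    exact ((dvd_pow_self r (by omega)).trans (dvd_pow_self (r ^ f) (by omega))).mul_right P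
  rcases hr.dvd_mul.1 h1 with h2 | h2
  · exfalso
    have h3 : r ∣ Nat.gcd d (r ^ f) := Nat.dvd_gcd h2 (dvd_pow_self r (by omega))
    rw [hd] at h3
    exact hr.one_lt.ne' (Nat.dvd_one.1 h3)
  · exact h2

theorem chr_of' {r f q d c N P : ℕ} (hr : r.Prime) (hf : 1 ≤ f) (hq : q = r ^ f) (h : d * c = q ^ N * P) (hN : 1 ≤ N)
    (hd : d.Coprime q) : r ∣ c := by
  subst hq
  exact chr_of hr hf hN hd h

theorem cop_gcd_sub {r f m k : ℕ} (hr : r.Prime) (hk : 1 ≤ k) : (Nat.gcd m ((r ^ f) ^ k - 1)).Coprime (r ^ f) :=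
  Nat.Coprime.coprime_dvd_left (Nat.gcd_dvd_right _ _) (cop_sub (Nat.one_le_pow _ _ hr.pos) hk)

theorem cop_gcd_add {r f m k : ℕ} (hk : 1 ≤ k) : (Nat.gcd m ((r ^ f) ^ k + 1)).Coprime (r ^ f) :=
  Nat.Coprime.coprime_dvd_left (Nat.gcd_dvd_right _ _) (cop_add hk)

/-! ### products -/

theorem prod_map_range (F : ℕ → Fac) (q n : ℕ) :
    (((List.range n).map F).map (Fac.val q)).prod = ∏ i ∈ Finset.range n, (F i).val q := by
  induction n with
  | zero => rfl
  | succ n ih =>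
    rw [List.range_succ, List.map_append, List.map_append, List.prod_append, ih, Finset.prod_range_succ]
    simp

theorem prod_gl (q n : ℕ) : ∏ i ∈ Finset.range n, (q ^ n - q ^ i) =
    q ^ (n * (n - 1) / 2) * ∏ i ∈ Finset.range n, (q ^ (i + 1) - 1) := by
  have h1 : ∏ i ∈ Finset.range n, (q ^ n - q ^ i) = (∏ i ∈ Finset.range n, q ^ i) *
      ∏ i ∈ Finset.range n, (q ^ (n - i) - 1) := by
    rw [← Finset.prod_mul_distrib]
    apply Finset.prod_congr rfl
    intro i hi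
    rw [Finset.mem_range] at hi
    rw [Nat.mul_sub, mul_one, ← pow_add]
    congr 2
    omega
  rw [h1, Finset.prod_pow_eq_pow_sum, Finset.sum_range_id]
  congr 1
  rw [← Finset.prod_range_reflect (fun i => q ^ (i + 1) - 1) n]
  apply Finset.prod_congr rfl
  intro i hi
  rw [Finset.mem_range] at hi
  congr 2
  omega

/-- `q ^ 2 = r ^ k` -/
theorem exists_pow_eq {r k q j : ℕ} (hr : r.Prime) (hj : 0 < j) (h : r ^ k = q ^ j) (hk : 0 < k) : ∃ f, 1 ≤ f ∧ q = r ^ f := by
  have h1 : q ∣ r ^ k := by rw [h]; exact dvd_pow_self q hj.ne'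
  obtain ⟨f, -, rfl⟩ := (Nat.dvd_prime_pow hr).1 h1
  refine ⟨f, ?_, rfl⟩
  rcases Nat.eq_zero_or_pos f with h0 | h0
  · exfalso
    subst h0
    rw [pow_zero, one_pow] at h
    have := Nat.one_lt_pow hk.ne' hr.one_lt
    omega
  · exact h0

/-! ### the families -/

section

variable {F : Type} [Field F] [Fintype F] {r : ℕ} [CharP F r]

theorem exists_card (F : Type) [Field F] [Fintype F] (r : ℕ) [CharP F r] : ∃ f, 1 ≤ f ∧ Fintype.card F = r ^ f := by
  obtain ⟨n, -, hn⟩ := FiniteField.card F r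
  exact ⟨n, n.2, hn⟩

theorem shape_psl {n : ℕ} (hn : 2 ≤ n) (hr : r.Prime) : Shape r (Nat.card (Matrix.ProjectiveSpecialLinearGroup (Fin n) F)) := by
  obtain ⟨f, hf, hcard⟩ := exists_card F r
  set q := Fintype.card F with hq
  have hq1 : 1 < q := Fintype.one_lt_card
  have h := Cfsg.Agent.S0243.result (F := F) rfl n hn
  rw [← hq, Fin.prod_univ_eq_prod_range (fun i => q ^ n - q ^ i) n, prod_gl] at h
  obtain ⟨m, rfl⟩ : ∃ m, n = m + 1 := ⟨n - 1, by omega⟩
  rw [Finset.prod_range_succ', zero_add, pow_one] at h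
  have hq0 : 0 < q - 1 := by omega
  have h1 : Nat.gcd (m + 1) (q - 1) * Nat.card (Matrix.ProjectiveSpecialLinearGroup (Fin (m + 1)) F) =
      q ^ ((m + 1) * (m + 1 - 1) / 2) * ∏ i ∈ Finset.range m, (q ^ (i + 1 + 1) - 1) := by
    apply Nat.eq_of_mul_eq_mul_left hq0
    calc (q - 1) * (Nat.gcd (m + 1) (q - 1) * Nat.card (Matrix.ProjectiveSpecialLinearGroup (Fin (m + 1)) F)) =
        Nat.gcd (m + 1) (q - 1) * ((q - 1) * Nat.card (Matrix.ProjectiveSpecialLinearGroup (Fin (m + 1)) F)) := by ring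
      _ = _ := by rw [h]; ring
  have hN : 1 ≤ (m + 1) * (m + 1 - 1) / 2 := by
    have h2 : 2 * 1 ≤ (m + 1) * (m + 1 - 1) := Nat.mul_le_mul (by omega) (by omega)
    omega
  refine ⟨f, Nat.gcd (m + 1) (q - 1), (m + 1) * (m + 1 - 1) / 2, (List.range m).map fun i => Fac.sub (i + 2), hf, ?_,
    ?_, ?_, ?_, chr_of' hr hf hcard h1 hN (by
      have h3 := cop_gcd_sub (m := m + 1) (k := 1) (f := f) hr le_rfl
      rwa [pow_one, ← hcard] at h3)⟩
  · rw [← hcard, prod_map_range]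
    exact h1
  · intro v hv hv5 hvd
    have hvn : v ≤ m + 1 := Nat.le_of_dvd (by omega) (hvd.trans (Nat.gcd_dvd_left _ _))
    have hvq : v ∣ q - 1 := hvd.trans (Nat.gcd_dvd_right _ _)
    obtain ⟨k, rfl⟩ : ∃ k, m = k + 1 + 1 := ⟨m - 2, by omega⟩
    rw [Finset.prod_range_succ', Finset.prod_range_succ'] at h1
    have hsub : ∀ i, q - 1 ∣ q ^ i - 1 := fun i => by
      have := Nat.sub_dvd_pow_sub_pow q 1 i
      rwa [one_pow] at this
    refine dvd_of_split (X := q ^ (0 + 1 + 1) - 1) (Y := q ^ ((k + 1 + 1 + 1) * (k + 1 + 1 + 1 - 1) / 2) *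
      (∏ i ∈ Finset.range k, (q ^ (i + 1 + 1 + 1 + 1) - 1)) * (q ^ (0 + 1 + 1 + 1) - 1)) (Nat.gcd_pos_of_pos_right _ hq0)
      (h1.trans ?_) ?_ ?_
    · ring
    · exact (Nat.gcd_dvd_right _ _).trans (hsub _)
    · exact (hvq.trans (hsub _)).mul_left _
  · intro _
    rw [List.mem_map]
    exact ⟨0, List.mem_range.2 (by omega), rfl⟩
  · intro i j hi
    exfalso
    rw [List.mem_map] at hi
    obtain ⟨x, -, hx⟩ := hi
    cases hx

theorem shape_psp {m : ℕ} (hm : 2 ≤ m) (hr : r.Prime) : Shape r (Nat.card (PSp m F)) := by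
  obtain ⟨f, hf, hcard⟩ := exists_card F r
  have h1 := Cfsg.Agent.S0245.result (F := F) rfl m
  have h2 := Cfsg.Agent.S0246.result (F := F) rfl m (by omega)
  have h3 := Subgroup.card_eq_card_quotient_mul_card_subgroup
    (Subgroup.center (Matrix.symplecticGroup (Fin m) F))
  rw [h1, h2] at h3
  refine ⟨f, Nat.gcd 2 (Fintype.card F - 1), m ^ 2, (List.range m).map fun i => Fac.sub (2 * (i + 1)), hf, ?_,
    den_small (Nat.gcd_dvd_left _ _) (by norm_num) (by norm_num), ?_, ?_,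
    chr_of' hr hf hcard ((mul_comm _ _).trans h3.symm) (Nat.one_le_pow _ _ (by omega)) (by
      have h4 := cop_gcd_sub (m := 2) (k := 1) (f := f) hr le_rfl
      rwa [pow_one, ← hcard] at h4)⟩
  · rw [← hcard, prod_map_range, mul_comm (Nat.gcd _ _)]
    exact h3.symm
  · intro _
    rw [List.mem_map]
    exact ⟨0, List.mem_range.2 (by omega), rfl⟩
  · intro i j hi
    exfalso
    rw [List.mem_map] at hi
    obtain ⟨x, -, hx⟩ := hi
    cases hx

theorem shape_psu {n q : ℕ} (hF : Fintype.card F = q ^ 2) (hn : 3 ≤ n) (hr : r.Prime) :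
    Shape r (Nat.card (PSU n F q)) := by
  obtain ⟨k, hk, hcard⟩ := exists_card F r
  obtain ⟨f, hf, hqf⟩ := exists_pow_eq hr two_pos (hcard.symm.trans hF) hk
  have h := Cfsg.Agent.S0280.result hF n (by omega)
  obtain ⟨m, rfl⟩ : ∃ m, n = m + 1 := ⟨n - 1, by omega⟩
  rw [Finset.prod_range_succ', if_pos Even.zero, zero_add, pow_one] at h
  have h1 : Nat.gcd (m + 1) (q + 1) * Nat.card (PSU (m + 1) F q) =
      q ^ ((m + 1) * (m + 1 - 1) / 2) * ∏ i ∈ Finset.range m,
        (if Even (i + 1) then q ^ (i + 1 + 1) + 1 else q ^ (i + 1 + 1) - 1) := by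
    have hq0 : 0 < q + 1 := Nat.succ_pos q
    apply Nat.eq_of_mul_eq_mul_left hq0
    calc (q + 1) * (Nat.gcd (m + 1) (q + 1) * Nat.card (PSU (m + 1) F q)) =
        Nat.gcd (m + 1) (q + 1) * ((q + 1) * Nat.card (PSU (m + 1) F q)) := by ring
      _ = _ := by rw [h]; ring
  have hN : 1 ≤ (m + 1) * (m + 1 - 1) / 2 := by
    have h2 : 2 * 1 ≤ (m + 1) * (m + 1 - 1) := Nat.mul_le_mul (by omega) (by omega)
    omega
  refine ⟨f, Nat.gcd (m + 1) (q + 1), (m + 1) * (m + 1 - 1) / 2,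
    (List.range m).map fun i => if Even (i + 1) then Fac.add (i + 2) else Fac.sub (i + 2), hf, ?_, ?_, ?_, ?_,
    chr_of' hr hf hqf h1 hN (by
      have h3 := cop_gcd_add (m := m + 1) (k := 1) (f := f) (r := r) le_rfl
      rwa [pow_one, ← hqf] at h3)⟩
  · rw [← hqf, prod_map_range, h1]
    congr 1
    apply Finset.prod_congr rfl
    intro i _
    by_cases hi : Even (i + 1)
    · rw [if_pos hi, if_pos hi]; rfl
    · rw [if_neg hi, if_neg hi]; rfl
  · intro v hv hv5 hvd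
    have hvn : v ≤ m + 1 := Nat.le_of_dvd (by omega) (hvd.trans (Nat.gcd_dvd_left _ _))
    have hvq : v ∣ q + 1 := hvd.trans (Nat.gcd_dvd_right _ _)
    obtain ⟨k, rfl⟩ : ∃ k, m = k + 1 + 1 := ⟨m - 2, by omega⟩
    rw [Finset.prod_range_succ', Finset.prod_range_succ', if_neg (show ¬ Even (0 + 1) by decide),
      if_pos (show Even (0 + 1 + 1) by decide)] at h1
    have h3 : q + 1 ∣ q ^ (0 + 1 + 1 + 1) + 1 := by
      refine ⟨q ^ 2 - q + 1, ?_⟩
      have h4 : q ≤ q ^ 2 := Nat.le_self_pow (by norm_num) q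
      obtain ⟨t, ht⟩ := Nat.exists_eq_add_of_le h4
      rw [ht, Nat.add_sub_cancel_left]
      have h5 : q ^ (0 + 1 + 1 + 1) = q * q ^ 2 := by ring
      rw [h5, ht]
      nlinarith
    have h4 : q + 1 ∣ q ^ (0 + 1 + 1) - 1 := by
      rw [show q ^ (0 + 1 + 1) - 1 = (q + 1) * (q - 1) by
        rw [← Nat.sq_sub_sq, one_pow]]
      exact Dvd.intro _ rfl
    refine dvd_of_split (X := q ^ (0 + 1 + 1) - 1) (Y := q ^ ((k + 1 + 1 + 1) * (k + 1 + 1 + 1 - 1) / 2) *
      (∏ i ∈ Finset.range k, (if Even (i + 1 + 1 + 1) then q ^ (i + 1 + 1 + 1 + 1) + 1 else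
        q ^ (i + 1 + 1 + 1 + 1) - 1)) * (q ^ (0 + 1 + 1 + 1) + 1)) (Nat.gcd_pos_of_pos_right _ (Nat.succ_pos q))
      (h1.trans ?_) ?_ ?_
    · ring
    · exact (Nat.gcd_dvd_right _ _).trans h4
    · exact (hvq.trans h3).mul_left _
  · intro _
    rw [List.mem_map]
    exact ⟨0, List.mem_range.2 (by omega), by rw [if_neg (by decide)]⟩
  · intro i j _ hj _ hje
    exfalso
    rw [List.mem_map] at hj
    obtain ⟨x, -, hx⟩ := hj
    by_cases hxe : Even (x + 1)
    · rw [if_pos hxe, Fac.add.injEq] at hx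
      rw [← hx, Nat.even_add_one] at hje
      exact hje hxe
    · rw [if_neg hxe] at hx
      cases hx

theorem shape_oodd {m : ℕ} (hm : 3 ≤ m) (ho : Odd (Fintype.card F)) (hr : r.Prime) :
    Shape r (Nat.card (POmega F (quadFormOdd m F))) := by
  obtain ⟨f, hf, hcard⟩ := exists_card F r
  have h1 := Cfsg.Agent.S0292.result (F := F) rfl ho m hm
  refine ⟨f, 2, m ^ 2, (List.range m).map fun i => Fac.sub (2 * (i + 1)), hf, ?_,
    den_small (dvd_refl 2) (by norm_num) (by norm_num), ?_, ?_,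
    chr_of' hr hf hcard h1 (Nat.one_le_pow _ _ (by omega)) ((Nat.coprime_two_left).2 ho)⟩
  · rw [← hcard, prod_map_range]
    exact h1
  · intro _
    rw [List.mem_map]
    exact ⟨0, List.mem_range.2 (by omega), rfl⟩
  · intro i j hi
    exfalso
    rw [List.mem_map] at hi
    obtain ⟨x, -, hx⟩ := hi
    cases hx

theorem shape_oplus {m : ℕ} (hm : 4 ≤ m) (hr : r.Prime) : Shape r (Nat.card (POmega F (quadFormPlus m F))) := by
  obtain ⟨f, hf, hcard⟩ := exists_card F r
  have h1 := Cfsg.Agent.S0293.result (F := F) rfl m hm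
  refine ⟨f, Nat.gcd 4 (Fintype.card F ^ m - 1), m * (m - 1),
    Fac.sub m :: (List.range (m - 1)).map fun i => Fac.sub (2 * (i + 1)), hf, ?_,
    den_small (Nat.gcd_dvd_left _ _) (by norm_num) (by norm_num), ?_, ?_,
    chr_of' hr hf hcard (h1.trans (mul_assoc _ _ _)) (Nat.mul_pos (by omega) (by omega)) (by
      rw [hcard]
      exact cop_gcd_sub hr (by omega))⟩
  · rw [← hcard, List.map_cons, List.prod_cons, prod_map_range, ← mul_assoc]
    exact h1
  · intro _
    rw [List.mem_cons, List.mem_map]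
    exact Or.inr ⟨0, List.mem_range.2 (by omega), rfl⟩
  · intro i j hi
    exfalso
    rw [List.mem_cons, List.mem_map] at hi
    rcases hi with hi | ⟨x, -, hx⟩
    · cases hi
    · cases hx

theorem shape_ominus {m : ℕ} (hm : 4 ≤ m) {a b : F}
    (hab : ∀ z₁ z₂ : F, z₁ ^ 2 + a * z₁ * z₂ + b * z₂ ^ 2 = 0 → z₁ = 0 ∧ z₂ = 0) (hr : r.Prime) :
    Shape r (Nat.card (POmega F (quadFormMinus (m - 1) F a b))) := by
  obtain ⟨f, hf, hcard⟩ := exists_card F r
  have h1 := Cfsg.Agent.S0294.result (F := F) rfl m hm a b hab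
  refine ⟨f, Nat.gcd 4 (Fintype.card F ^ m + 1), m * (m - 1),
    Fac.add m :: (List.range (m - 1)).map fun i => Fac.sub (2 * (i + 1)), hf, ?_,
    den_small (Nat.gcd_dvd_left _ _) (by norm_num) (by norm_num), ?_, ?_,
    chr_of' hr hf hcard (h1.trans (mul_assoc _ _ _)) (Nat.mul_pos (by omega) (by omega)) (by
      rw [hcard]
      exact cop_gcd_add (by omega))⟩
  · rw [← hcard, List.map_cons, List.prod_cons, prod_map_range, ← mul_assoc]
    exact h1
  · intro _
    rw [List.mem_cons, List.mem_map]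
    exact Or.inr ⟨0, List.mem_range.2 (by omega), rfl⟩
  · intro i j hi hj hio hje
    exfalso
    rw [List.mem_cons, List.mem_map] at hi hj
    rcases hi with hi | ⟨x, -, hx⟩
    · rcases hj with hj | ⟨x, -, hx⟩
      · rw [Fac.add.injEq] at hi hj
        rw [hi] at hio
        rw [hj] at hje
        exact (Nat.not_even_iff_odd.2 hio) hje
      · cases hx
    · cases hx

/-- a family given by a list of factors -/
theorem shape_list {c f d N : ℕ} {l : List Fac} (hr : r.Prime) (hN : 1 ≤ N) (hcop : d.Coprime (r ^ f)) (hf : 1 ≤ f)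
    (hd : d ∣ 12) (hd5 : d < 5)
    (heq : d * c = (r ^ f) ^ N * (l.map (Fac.val (r ^ f))).prod) (htwo : 5 ≤ r → Fac.sub 2 ∈ l)
    (hmix : ∀ i j : ℕ, Fac.add i ∈ l → Fac.add j ∈ l → Odd i → Even j → i = 3 ∧ Fac.sub 1 ∈ l) : Shape r c := by
  refine ⟨f, d, N, l, hf, heq, ?_, htwo, hmix, chr_of hr hf hN hcop heq⟩
  intro v _ hv5 hvd
  exfalso
  have hd0 : 0 < d := Nat.pos_of_dvd_of_pos hd (by norm_num)
  have := Nat.le_of_dvd hd0 hvd
  omega

end

/-- **The orders of the groups of Lie type.** -/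
theorem shape_of_lie {r : ℕ} (hr : r.Prime) {S : Type*} [Group S] (h : IsLieTypeChar r S) : Shape r (Nat.card S) := by
  rcases h with ⟨F, _, _, _, n, hn, -, ⟨e⟩⟩ | ⟨F, _, _, _, m, hm, -, ⟨e⟩⟩ | ⟨F, _, _, _, n, q, hF, hn, -, ⟨e⟩⟩ |
    ⟨F, _, _, _, m, hm, ho, ⟨e⟩⟩ | ⟨F, _, _, _, m, hm, ⟨e⟩⟩ | ⟨F, _, _, _, m, a, b, hm, hab, ⟨e⟩⟩ | h | h |
    ⟨hr2, F, _, _, m, hm, hF, ⟨e⟩⟩ | ⟨hr2, F, _, _, m, hm, hF, ⟨e⟩⟩ | ⟨hr3, F, _, _, m, hm, hF, ⟨e⟩⟩
  · rw [Nat.card_congr e.toEquiv]; exact shape_psl hn hr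
  · rw [Nat.card_congr e.toEquiv]; exact shape_psp hm hr
  · rw [Nat.card_congr e.toEquiv]; exact shape_psu hF hn hr
  · rw [Nat.card_congr e.toEquiv]; exact shape_oodd hm ho hr
  · rw [Nat.card_congr e.toEquiv]; exact shape_oplus hm hr
  · rw [Nat.card_congr e.toEquiv]; exact shape_ominus hm hab hr
  · obtain ⟨F, _, _, _, h⟩ := h
    obtain ⟨f, hf, hcard⟩ := exists_card F r
    have hg3 : Nat.gcd 3 (r ^ f - 1) ∣ 12 := (Nat.gcd_dvd_left _ _).trans (by norm_num)
    have hg3' : Nat.gcd 3 (r ^ f - 1) < 5 := lt_of_le_of_lt (Nat.le_of_dvd (by norm_num) (Nat.gcd_dvd_left _ _)) (by norm_num)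
    have hg2 : Nat.gcd 2 (r ^ f - 1) ∣ 12 := (Nat.gcd_dvd_left _ _).trans (by norm_num)
    have hg2' : Nat.gcd 2 (r ^ f - 1) < 5 := lt_of_le_of_lt (Nat.le_of_dvd (by norm_num) (Nat.gcd_dvd_left _ _)) (by norm_num)
    have hmix : ∀ l : List ℕ, ∀ i j : ℕ, Fac.add i ∈ l.map Fac.sub → Fac.add j ∈ l.map Fac.sub → Odd i → Even j →
        i = 3 ∧ Fac.sub 1 ∈ l.map Fac.sub := by
      intro l i j hi
      exfalso
      rw [List.mem_map] at hi
      obtain ⟨x, -, hx⟩ := hi
      cases hx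
    rcases h with ⟨-, ⟨e⟩⟩ | ⟨⟨e⟩⟩ | ⟨⟨e⟩⟩ | ⟨⟨e⟩⟩ | ⟨⟨e⟩⟩
    · rw [Nat.card_congr e.toEquiv]
      refine shape_list (d := 1) (N := 6) (l := [2, 6].map Fac.sub) hr (by norm_num) (Nat.coprime_one_left _) hf (by norm_num) (by norm_num) ?_
        (fun _ => List.mem_cons_self) (hmix _)
      rw [one_mul, Cfsg.Agent.S1059.result hcard]
      simp only [List.map_cons, List.map_nil, List.prod_cons, List.prod_nil, Fac.val]
      ring
    · rw [Nat.card_congr e.toEquiv]
      refine shape_list (d := 1) (N := 24) (l := [2, 6, 8, 12].map Fac.sub) hr (by norm_num) (Nat.coprime_one_left _) hf (by norm_num) (by norm_num) ?_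
        (fun _ => List.mem_cons_self) (hmix _)
      rw [one_mul, Cfsg.Agent.S1062.result hcard]
      simp only [List.map_cons, List.map_nil, List.prod_cons, List.prod_nil, Fac.val]
      ring
    · rw [Nat.card_congr e.toEquiv]
      refine shape_list (N := 36) (l := [2, 5, 6, 8, 9, 12].map Fac.sub) hr (by norm_num) (by
        have := cop_gcd_sub (m := 3) (k := 1) (f := f) hr le_rfl
        rwa [pow_one] at this) hf hg3 hg3' ?_
        (fun _ => List.mem_cons_self) (hmix _)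
      rw [Cfsg.Agent.S1063.result hcard]
      simp only [List.map_cons, List.map_nil, List.prod_cons, List.prod_nil, Fac.val]
      ring
    · rw [Nat.card_congr e.toEquiv]
      refine shape_list (N := 63) (l := [2, 6, 8, 10, 12, 14, 18].map Fac.sub) hr (by norm_num) (by
        have := cop_gcd_sub (m := 2) (k := 1) (f := f) hr le_rfl
        rwa [pow_one] at this) hf hg2 hg2' ?_
        (fun _ => List.mem_cons_self) (hmix _)
      rw [Cfsg.Agent.S1064.result hcard]
      simp only [List.map_cons, List.map_nil, List.prod_cons, List.prod_nil, Fac.val]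
      ring
    · rw [Nat.card_congr e.toEquiv]
      refine shape_list (d := 1) (N := 120) (l := [2, 8, 12, 14, 18, 20, 24, 30].map Fac.sub) hr (by norm_num)
        (Nat.coprime_one_left _) hf (by norm_num)
        (by norm_num) ?_ (fun _ => List.mem_cons_self) (hmix _)
      rw [one_mul, Cfsg.Agent.S1065.result hcard]
      simp only [List.map_cons, List.map_nil, List.prod_cons, List.prod_nil, Fac.val]
      ring
  · obtain ⟨F, _, _, _, q, hq, h⟩ := h
    obtain ⟨k, hk, hcard⟩ := exists_card F r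
    rcases h with ⟨hF, ⟨e⟩⟩ | ⟨hF, ⟨e⟩⟩
    · obtain ⟨f, hf, rfl⟩ := exists_pow_eq hr two_pos (hcard.symm.trans hF) hk
      rw [Nat.card_congr e.toEquiv]
      refine shape_list (N := 36) (l := [Fac.sub 2, Fac.add 5, Fac.sub 6, Fac.sub 8, Fac.add 9, Fac.sub 12]) hr
        (by norm_num) (by
          have := cop_gcd_add (m := 3) (k := 1) (f := f) (r := r) le_rfl
          rwa [pow_one] at this) hf
        ((Nat.gcd_dvd_left 3 (r ^ f + 1)).trans (by norm_num))
        (lt_of_le_of_lt (Nat.le_of_dvd (by norm_num) (Nat.gcd_dvd_left _ _)) (by norm_num)) ?_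
        (fun _ => List.mem_cons_self) ?_
      · rw [Cfsg.Agent.S1066.result hq hF]
        simp only [List.map_cons, List.map_nil, List.prod_cons, List.prod_nil, Fac.val]
        ring
      · intro i j _ hj _ hje
        exfalso
        simp only [List.mem_cons, Fac.add.injEq, reduceCtorEq, false_or, List.not_mem_nil, or_false] at hj
        rcases hj with rfl | rfl <;> exact absurd hje (by decide)
    · obtain ⟨f, hf, rfl⟩ := exists_pow_eq hr three_pos (hcard.symm.trans hF) hk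
      rw [Nat.card_congr e.toEquiv]
      refine shape_list (d := 1) (N := 12) (l := [Fac.sub 2, Fac.sub 6, Fac.tri]) hr (by norm_num)
        (Nat.coprime_one_left _) hf (by norm_num) (by norm_num) ?_
        (fun _ => List.mem_cons_self) ?_
      · rw [one_mul, Cfsg.Agent.S1067.result hq hF]
        simp only [List.map_cons, List.map_nil, List.prod_cons, List.prod_nil, Fac.val]
        ring
      · intro i j hi
        exfalso
        simp only [List.mem_cons, reduceCtorEq, List.not_mem_nil, or_false] at hi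
  · subst hr2
    rw [Nat.card_congr e.toEquiv, (Cfsg.Agent.S1163.result hm hF).1]
    refine shape_list (f := 2 * m + 1) (d := 1) (N := 2) (l := [Fac.sub 1, Fac.add 2]) hr (by norm_num)
      (Nat.coprime_one_left _) (by omega) (by norm_num)
      (by norm_num) ?_ (by norm_num) ?_
    · simp only [List.map_cons, List.map_nil, List.prod_cons, List.prod_nil, Fac.val, pow_one]
      ring
    · intro i j hi _ hio _
      exfalso
      simp only [List.mem_cons, Fac.add.injEq, reduceCtorEq, false_or, List.not_mem_nil, or_false] at hi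
      subst hi
      exact absurd hio (by decide)
  · subst hr2
    rw [Nat.card_congr e.toEquiv, Cfsg.Agent.S1068.result hF]
    refine shape_list (f := 2 * m + 1) (d := 1) (N := 12) (l := [Fac.sub 1, Fac.add 3, Fac.sub 4, Fac.add 6]) hr
      (by norm_num) (Nat.coprime_one_left _) (by omega)
      (by norm_num) (by norm_num) ?_ (by norm_num) ?_
    · simp only [List.map_cons, List.map_nil, List.prod_cons, List.prod_nil, Fac.val, pow_one]
      ring
    · intro i j hi _ hio _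
      simp only [List.mem_cons, Fac.add.injEq, reduceCtorEq, false_or, List.not_mem_nil, or_false] at hi
      rcases hi with rfl | rfl
      · exact ⟨rfl, List.mem_cons_self⟩
      · exact absurd hio (by decide)
  · subst hr3
    rw [Nat.card_congr e.toEquiv, Cfsg.Agent.S1069.result hF]
    refine shape_list (f := 2 * m + 1) (d := 1) (N := 3) (l := [Fac.sub 1, Fac.add 3]) hr (by norm_num)
      (Nat.coprime_one_left _) (by omega) (by norm_num)
      (by norm_num) ?_ (by norm_num) ?_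
    · simp only [List.map_cons, List.map_nil, List.prod_cons, List.prod_nil, Fac.val, pow_one]
      ring
    · intro i j _ hj _ hje
      exfalso
      simp only [List.mem_cons, Fac.add.injEq, reduceCtorEq, false_or, List.not_mem_nil, or_false] at hj
      subst hj
      exact absurd hje (by decide)

/-! ### consequences -/

/-- the relation between the orders of `r` modulo `u` and `v` -/
structure Rel (r u v : ℕ) : Prop where
  sub : ∀ j, u ∣ r ^ j - 1 → v ∣ r ^ j - 1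
  add : ∀ j, u ∣ r ^ j + 1 → v ∣ r ^ j + 1
  tri : ∀ j, u ∣ r ^ (8 * j) + r ^ (4 * j) + 1 → v ∣ r ^ (8 * j) + r ^ (4 * j) + 1

variable {r c f d N : ℕ} {l : List Fac}

/-- a prime dividing a factor divides the order -/
theorem ShapeD.dvd_of_fac (h : ShapeD r c f d N l) {v : ℕ} (hv : v.Prime) (hv5 : 5 ≤ v) {x : Fac} (hx : x ∈ l)
    (hd : v ∣ x.val (r ^ f)) : v ∣ c := by
  have h1 : v ∣ d * c := by
    rw [h.eq]
    exact ((hd.trans (List.dvd_prod (List.mem_map_of_mem hx)))).mul_left _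
  rcases hv.dvd_mul.1 h1 with h2 | h2
  · exact h.den v hv hv5 h2
  · exact h2

/-- a prime other than `r` dividing the order divides a factor -/
theorem ShapeD.exists_fac (h : ShapeD r c f d N l) (hr : r.Prime) {u : ℕ} (hu : u.Prime) (hur : u ≠ r) (hd : u ∣ c) :
    ∃ x ∈ l, u ∣ x.val (r ^ f) := by
  have h1 : u ∣ (r ^ f) ^ N * (l.map (Fac.val (r ^ f))).prod := by
    rw [← h.eq]
    exact hd.mul_left d
  rcases hu.dvd_mul.1 h1 with h2 | h2
  · exfalso
    rw [← pow_mul] at h2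
    exact hur ((Nat.prime_dvd_prime_iff_eq hu hr).1 (hu.dvd_of_dvd_pow h2))
  · obtain ⟨y, hy, hyd⟩ := (hu.prime.dvd_prod_iff).1 h2
    rw [List.mem_map] at hy
    obtain ⟨x, hx, rfl⟩ := hy
    exact ⟨x, hx, hyd⟩

theorem Rel.val {u v : ℕ} (R : Rel r u v) (x : Fac) (h : u ∣ x.val (r ^ f)) : v ∣ x.val (r ^ f) := by
  cases x with
  | sub i =>
    change u ∣ (r ^ f) ^ i - 1 at h
    change v ∣ (r ^ f) ^ i - 1
    rw [← pow_mul] at h ⊢
    exact R.sub _ h
  | add i =>
    change u ∣ (r ^ f) ^ i + 1 at h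
    change v ∣ (r ^ f) ^ i + 1
    rw [← pow_mul] at h ⊢
    exact R.add _ h
  | tri =>
    change u ∣ (r ^ f) ^ 8 + (r ^ f) ^ 4 + 1 at h
    change v ∣ (r ^ f) ^ 8 + (r ^ f) ^ 4 + 1
    rw [← pow_mul, ← pow_mul, mul_comm f 8, mul_comm f 4] at h ⊢
    exact R.tri _ h

/-- **`u ∣ |S|` implies `v ∣ |S|`.** -/
theorem Shape.dvd (h : Shape r c) (hr : r.Prime) {u v : ℕ} (hu : u.Prime) (hur : u ≠ r) (hv : v.Prime) (hv5 : 5 ≤ v)
    (R : Rel r u v) (hd : u ∣ c) : v ∣ c := by
  obtain ⟨f, d, N, l, h⟩ := h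
  obtain ⟨x, hx, hxd⟩ := h.exists_fac hr hu hur hd
  exact h.dvd_of_fac hv hv5 hx (R.val x hxd)

theorem Shape.chr (h : Shape r c) : r ∣ c := by
  obtain ⟨f, d, N, l, h⟩ := h
  exact h.chr

/-- **`v ∣ r ^ 2 - 1` implies `v ∣ |S|`.** -/
theorem Shape.dvd_of_sq (h : Shape r c) (hr5 : 5 ≤ r) {v : ℕ} (hv : v.Prime) (hv5 : 5 ≤ v)
    (hd : v ∣ r ^ 2 - 1) : v ∣ c := by
  obtain ⟨f, d, N, l, h⟩ := h
  refine h.dvd_of_fac hv hv5 (h.two hr5) (hd.trans ?_)
  change r ^ 2 - 1 ∣ (r ^ f) ^ 2 - 1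
  have := Nat.sub_dvd_pow_sub_pow (r ^ 2) 1 f
  rw [one_pow] at this
  rwa [← pow_mul, mul_comm, pow_mul] at this

end Cfsg.Agent.H414.LieShape
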