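import Cfsg.Agent.H414.Arith
import Cfsg.Agent.H414.LieShape

/-!
# Certificates for the relation `Rel r u v` (helper414)

`relB` : with `r ^ o = 1` modulo `u` (`o` the order), `r ^ e = 1` modulo `v`, `e ∣ o`, `o / e` prime to 6.
-/

set_option autoImplicit false

namespace Cfsg.Agent.H414.RelB

open Cfsg.Agent.H414.Arith Cfsg.Agent.H414.LieShape

/-- certificate -/
structure RC where
  u : ℕ
  v : ℕ
  o : ℕ
  e : ℕ
  /-- `(l, b, a)` : `l ^ b` exactly divides `e`, `l ^ a` exactly divides `o` -/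
  ls : List (ℕ × ℕ × ℕ)
  b2 : ℕ
  c3 : ℕ

/-- the check -/
def relB (ch : List (ℕ × ℕ × List (ℕ × ℕ))) (r : ℕ) (c : RC) : Bool :=
  Nat.blt 4 c.u && Nat.blt 4 c.v && isP ch c.v && Nat.beq (pe c.u r c.o) 1 && Nat.beq (pe c.v r c.e) 1 &&
  Nat.beq (prodl (c.ls.map fun x => (x.1, x.2.1))) c.e &&
  (c.ls.all fun x => isP ch x.1 && Nat.blt 0 x.2.1 && Nat.beq (c.o % x.1 ^ x.2.2) 0 &&
    !(Nat.beq (pe c.u r (x.1 ^ (x.2.1 - 1) * (c.o / x.1 ^ x.2.2))) 1)) &&
  Nat.beq (c.o % 2 ^ c.b2) 0 && Nat.beq (c.o / 2 ^ c.b2 % 2) 1 && Nat.beq (c.e % 2 ^ c.b2) 0 &&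
  (Nat.beq c.b2 0 || (Nat.beq (c.e % 2) 0 && Nat.beq (pe c.v r (c.e / 2) + 1) c.v)) &&
  Nat.beq (c.o % 3 ^ c.c3) 0 && !(Nat.beq (c.o / 3 ^ c.c3 % 3) 0) && Nat.beq (c.e % 3 ^ c.c3) 0 &&
  (Nat.beq c.c3 0 || (Nat.beq (c.e % 3) 0 && !(Nat.beq (pe c.v r (c.e / 3)) 1)))

/-- `l ^ b ∣ j` from `r ^ j = 1`, `r ^ o = 1`, `r ^ (l ^ (b - 1) o / l ^ a) ≠ 1`. -/
theorem pow_dvd_of {M : Type*} [Monoid M] {x : M} {l b a o j : ℕ} (hl : l.Prime) (hb : 0 < b) (ho : l ^ a ∣ o)
    (hxo : x ^ o = 1) (hx : x ^ (l ^ (b - 1) * (o / l ^ a)) ≠ 1) (hj : x ^ j = 1) : l ^ b ∣ j := by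
  by_contra hcon
  apply hx
  rw [← orderOf_dvd_iff_pow_eq_one] at hxo hj ⊢
  obtain ⟨m, rfl⟩ := ho
  rw [Nat.mul_div_cancel_left _ (pow_pos hl.pos a)]
  -- the `l`-part of the order
  obtain ⟨c, -, hc⟩ : ∃ c, c ≤ c ∧ True := ⟨0, le_rfl, trivial⟩
  clear hc c
  have hpos : orderOf x ≠ 0 := by
    intro h
    rw [h, zero_dvd_iff] at hj
    apply hcon
    rw [hj]
    exact dvd_zero _
  obtain ⟨c, o', ho', hoo⟩ := Nat.exists_eq_pow_mul_and_not_dvd hpos l hl.ne_one
  have hcb : c ≤ b - 1 := by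
    by_contra hcb
    apply hcon
    refine (pow_dvd_pow l (show b ≤ c by omega)).trans ((Dvd.intro _ hoo.symm).trans hj)
  have h1 : o' ∣ l ^ a * m := (Dvd.intro_left _ hoo.symm).trans hxo
  have h2 : Nat.Coprime o' (l ^ a) := Nat.Coprime.pow_right a (((Nat.Prime.coprime_iff_not_dvd hl).2 ho').symm)
  have h3 : o' ∣ m := h2.dvd_of_dvd_mul_left h1
  rw [hoo]
  exact Nat.mul_dvd_mul (pow_dvd_pow l hcb) h3

/-- a product of powers of distinct primes... (no distinctness needed: the product of the list divides `j` if the powers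
are coprime); the list form used here: all prime powers divide `j` and the bases are distinct. -/
theorem prodl_dvd {j : ℕ} : ∀ {l : List (ℕ × ℕ)}, (∀ x ∈ l, (x.1).Prime) → (l.map Prod.fst).Nodup →
    (∀ x ∈ l, x.1 ^ x.2 ∣ j) → prodl l ∣ j
  | [], _, _, _ => by simp [prodl]
  | x :: l, hp, hn, hd => by
    have h1 : prodl (x :: l) = x.1 ^ x.2 * prodl l := by simp [prodl]
    rw [h1]
    rw [List.map_cons, List.nodup_cons] at hn
    have ih := prodl_dvd (j := j) (fun y hy => hp y (List.mem_cons_of_mem _ hy)) hn.2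
      (fun y hy => hd y (List.mem_cons_of_mem _ hy))
    refine Nat.Coprime.mul_dvd_of_dvd_of_dvd ?_ (hd x List.mem_cons_self) ih
    apply Nat.Coprime.pow_left
    rw [(hp x List.mem_cons_self).coprime_iff_not_dvd]
    intro h
    obtain ⟨y, hy, hyx⟩ := mem_of_dvd_prodl (hp x List.mem_cons_self) (fun y hy => hp y (List.mem_cons_of_mem _ hy)) h
    exact hn.1 (List.mem_map.2 ⟨y, hy, hyx⟩)

theorem dvd_sub_iff {r u j : ℕ} (hr : 1 ≤ r) : u ∣ r ^ j - 1 ↔ (r : ZMod u) ^ j = 1 := by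
  rw [← ZMod.natCast_eq_zero_iff, Nat.cast_sub (Nat.one_le_pow _ _ hr), sub_eq_zero, Nat.cast_pow, Nat.cast_one]

theorem dvd_add_iff {r u j : ℕ} : u ∣ r ^ j + 1 ↔ (r : ZMod u) ^ j = -1 := by
  rw [← ZMod.natCast_eq_zero_iff, Nat.cast_add, Nat.cast_pow, Nat.cast_one, eq_neg_iff_add_eq_zero]

/-- **The relation from the check.** -/
theorem rel_of_relB {ch : List (ℕ × ℕ × List (ℕ × ℕ))} (hch : chainB [] ch = true) {r : ℕ} (hr : r.Prime) {c : RC}
    (hu : c.u.Prime) (hnd : (c.ls.map Prod.fst).Nodup) (h : relB ch r c = true) :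
    c.v.Prime ∧ 5 ≤ c.v ∧ Rel r c.u c.v := by
  obtain ⟨u, v, o, e, ls, b2, c3⟩ := c
  unfold relB at h
  simp only [Bool.and_eq_true, Nat.blt_eq, Nat.beq_eq, List.all_eq_true, Bool.or_eq_true, Bool.not_eq_true',
    ← Bool.not_eq_true] at h
  obtain ⟨⟨⟨⟨⟨⟨⟨⟨⟨⟨⟨⟨⟨⟨h1, h2⟩, h3⟩, h4⟩, h5⟩, h6⟩, h7⟩, h8⟩, h9⟩, h10⟩, h11⟩, h12⟩, h13⟩, h14⟩, h15⟩ := h
  change u.Prime at hu
  change (ls.map Prod.fst).Nodup at hnd
  show v.Prime ∧ 5 ≤ v ∧ Rel r u v
  have hv : v.Prime := prime_of_isP hch h3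
  have hfu := Fact.mk hu
  have hfv := Fact.mk hv
  have hr1 : 1 ≤ r := hr.one_lt.le
  have hxo : (r : ZMod u) ^ o = 1 := (pe_eq_one (by omega)).2 (by rw [Nat.beq_eq]; exact h4)
  have hxe : (r : ZMod v) ^ e = 1 := (pe_eq_one (by omega)).2 (by rw [Nat.beq_eq]; exact h5)
  -- `e ∣ j`
  have hdvd : ∀ j, (r : ZMod u) ^ j = 1 → e ∣ j := by
    intro j hj
    rw [← h6]
    apply prodl_dvd
    · intro x hx
      rw [List.mem_map] at hx
      obtain ⟨y, hy, rfl⟩ := hx
      exact prime_of_isP hch (h7 y hy).1.1.1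
    · rw [List.map_map]
      exact hnd
    · intro x hx
      rw [List.mem_map] at hx
      obtain ⟨y, hy, rfl⟩ := hx
      obtain ⟨⟨⟨a1, a2⟩, a3⟩, a4⟩ := h7 y hy
      refine pow_dvd_of (prime_of_isP hch a1) a2 (Nat.dvd_of_mod_eq_zero a3) hxo ?_ hj
      rw [Ne, pe_eq_one (by omega), Nat.beq_eq]
      exact a4
  have htwo : (2 : ZMod u) ≠ 0 := by
    intro h2
    have h3 : ((2 : ℕ) : ZMod u) = 0 := by exact_mod_cast h2
    rw [ZMod.natCast_eq_zero_iff] at h3
    have := Nat.le_of_dvd (by norm_num) h3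
    omega
  have hthree : (3 : ZMod u) ≠ 0 := by
    intro h2
    have h3 : ((3 : ℕ) : ZMod u) = 0 := by exact_mod_cast h2
    rw [ZMod.natCast_eq_zero_iff] at h3
    have := Nat.le_of_dvd (by norm_num) h3
    omega
  refine ⟨hv, by omega, ?_, ?_, ?_⟩
  · intro j hj
    rw [dvd_sub_iff hr1] at hj ⊢
    obtain ⟨t, rfl⟩ := hdvd j hj
    rw [pow_mul, hxe, one_pow]
  · intro j hj
    rw [dvd_add_iff] at hj ⊢
    have hj2 : (r : ZMod u) ^ (2 * j) = 1 := by rw [mul_comm, pow_mul, hj]; ring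
    -- `2 ^ b2` does not divide `j`
    have hnd2 : ¬ 2 ^ b2 ∣ j := by
      rintro ⟨w, rfl⟩
      have ha : (r : ZMod u) ^ (2 ^ b2 * w * (o / 2 ^ b2)) = 1 := by
        have h20 : 2 ^ b2 * w * (o / 2 ^ b2) = o * w := by
          have := Nat.div_mul_cancel (Nat.dvd_of_mod_eq_zero h8)
          calc 2 ^ b2 * w * (o / 2 ^ b2) = (o / 2 ^ b2 * 2 ^ b2) * w := by ring
            _ = o * w := by rw [this]
        rw [h20, pow_mul, hxo, one_pow]
      rw [pow_mul, hj, Odd.neg_one_pow (Nat.odd_iff.2 h9)] at ha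
      apply htwo
      have : (1 : ZMod u) - (-1) = 0 := by rw [ha]; ring
      calc (2 : ZMod u) = 1 - (-1) := by ring
        _ = 0 := this
    rcases h11 with h11 | ⟨h11, h16⟩
    · exfalso
      apply hnd2
      rw [h11, pow_zero]
      exact one_dvd _
    · obtain ⟨t, ht⟩ := hdvd _ hj2
      have htodd : Odd t := by
        rw [← Nat.not_even_iff_odd]
        rintro ⟨s, hs⟩
        apply hnd2
        have h17 : j = e * s := by
          have : 2 * j = 2 * (e * s) := by rw [ht, hs]; ring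
          omega
        rw [h17]
        exact (Nat.dvd_of_mod_eq_zero h10).mul_right s
      have h18 : j = e / 2 * t := by
        have h19 := Nat.div_mul_cancel (Nat.dvd_of_mod_eq_zero h11)
        have : 2 * j = 2 * (e / 2 * t) := by
          rw [ht]
          conv_lhs => rw [← h19]
          ring
        omega
      have h19 : (r : ZMod v) ^ (e / 2) = -1 := (pe_eq_neg_one (by omega)).2 (by rw [Nat.beq_eq]; exact h16)
      rw [h18, pow_mul, h19, Odd.neg_one_pow htodd]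
  · intro j hj
    have hcast : ∀ w : ℕ, w ∣ r ^ (8 * j) + r ^ (4 * j) + 1 ↔ ((r : ZMod w) ^ (4 * j)) ^ 2 + (r : ZMod w) ^ (4 * j) + 1 = 0 := by
      intro w
      rw [← ZMod.natCast_eq_zero_iff]
      push_cast
      rw [← pow_mul, show 4 * j * 2 = 8 * j by ring]
    rw [hcast] at hj ⊢
    set x : ZMod u := (r : ZMod u) ^ (4 * j) with hx
    set y : ZMod v := (r : ZMod v) ^ (4 * j) with hy
    have hx3 : x ^ 3 = 1 := by linear_combination (x - 1) * hj
    have hx1 : x ≠ 1 := by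
      intro h1
      rw [h1] at hj
      apply hthree
      calc (3 : ZMod u) = 1 ^ 2 + 1 + 1 := by ring
        _ = 0 := hj
    have h12j : (r : ZMod u) ^ (12 * j) = 1 := by
      rw [show 12 * j = 4 * j * 3 by ring, pow_mul]
      exact hx3
    have hnd3 : ¬ 3 ^ c3 ∣ 4 * j := by
      rintro ⟨w, hw⟩
      apply hx1
      have ha : x ^ (o / 3 ^ c3) = 1 := by
        rw [hx, ← pow_mul, hw]
        have h20 : 3 ^ c3 * w * (o / 3 ^ c3) = o * w := by
          have := Nat.div_mul_cancel (Nat.dvd_of_mod_eq_zero h12)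
          calc 3 ^ c3 * w * (o / 3 ^ c3) = (o / 3 ^ c3 * 3 ^ c3) * w := by ring
            _ = o * w := by rw [this]
        rw [h20, pow_mul, hxo, one_pow]
      have h21 : orderOf x ∣ 3 := orderOf_dvd_of_pow_eq_one hx3
      have h22 : orderOf x ∣ o / 3 ^ c3 := orderOf_dvd_of_pow_eq_one ha
      rcases (Nat.dvd_prime Nat.prime_three).1 h21 with h23 | h23
      · exact orderOf_eq_one_iff.1 h23
      · exfalso
        rw [h23] at h22
        exact h13 (Nat.mod_eq_zero_of_dvd h22)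
    rcases h15 with h15 | ⟨h15, h16⟩
    · exfalso
      apply hnd3
      rw [h15, pow_zero]
      exact one_dvd _
    · obtain ⟨t, ht⟩ := hdvd _ h12j
      have ht3 : ¬ 3 ∣ t := by
        rintro ⟨s, hs⟩
        apply hnd3
        have h17 : 4 * j = e * s := by
          have : 3 * (4 * j) = 3 * (e * s) := by rw [← mul_assoc, show 3 * 4 * j = 12 * j by ring, ht, hs]; ring
          omega
        rw [h17]
        exact (Nat.dvd_of_mod_eq_zero h14).mul_right s
      have h18 : 4 * j = e / 3 * t := by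
        have h19 := Nat.div_mul_cancel (Nat.dvd_of_mod_eq_zero h15)
        have : 3 * (4 * j) = 3 * (e / 3 * t) := by
          rw [show 3 * (4 * j) = 12 * j by ring, ht]
          conv_lhs => rw [← h19]
          ring
        omega
      set w : ZMod v := (r : ZMod v) ^ (e / 3) with hw
      have hw1 : w ≠ 1 := by
        rw [hw, Ne, pe_eq_one (by omega), Nat.beq_eq]
        exact h16
      have hw3 : w ^ 3 = 1 := by
        rw [hw, ← pow_mul, Nat.div_mul_cancel (Nat.dvd_of_mod_eq_zero h15), hxe]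
      have hyw : y = w ^ t := by rw [hy, h18, pow_mul]
      have hy1 : y ≠ 1 := by
        rw [hyw]
        intro h1
        have h21 : orderOf w ∣ 3 := orderOf_dvd_of_pow_eq_one hw3
        have h22 : orderOf w ∣ t := orderOf_dvd_of_pow_eq_one h1
        rcases (Nat.dvd_prime Nat.prime_three).1 h21 with h23 | h23
        · exact hw1 (orderOf_eq_one_iff.1 h23)
        · rw [h23] at h22
          exact ht3 h22
      have hy3 : y ^ 3 = 1 := by rw [hyw, ← pow_mul, mul_comm, pow_mul, hw3, one_pow]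
      have h24 : (y - 1) * (y ^ 2 + y + 1) = 0 := by linear_combination hy3
      rcases mul_eq_zero.1 h24 with h25 | h25
      · exact absurd (sub_eq_zero.1 h25) hy1
      · exact h25

end Cfsg.Agent.H414.RelB
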