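import Cfsg.Agent.H414.Good
import Cfsg.Agent.Lib.MinNormalNonabelian
import Cfsg.Agent.S0205

/-!
# Groups without solvable normal subgroups and an odd prime not adjacent to 2 (helper414)

* `IsComp S` : `S` is nonabelian simple and commutes with its other conjugates; `exists_comp`;
* `exists_two_mul_of_ext` : an extension of a `Good` simple group by a cyclic group of order `p`;
* `comp_of_nonadj` : `p` odd, `p ∣ |X|`, no element of order `2p`, `S` a `Good` component: `S ⊲ X`, `p ∤ |X : S|`,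
  `|C(S)|` odd;
* `structure_of_dvd` : the structure theorem for `p ∣ |X|`.
-/

set_option autoImplicit false

namespace Cfsg.Agent.H414.Comp

open Subgroup Cfsg.Agent.H414.Adj Cfsg.Agent.H414.Good

variable {X : Type*} [Group X]

/-- A nonabelian simple subgroup commuting with its other conjugates. -/
structure IsComp (S : Subgroup X) : Prop where
  simple : IsSimpleGroup ↥S
  noncomm : ∃ a b : ↥S, a * b ≠ b * a
  conj : ∀ g : X, (∀ s ∈ S, g * s * g⁻¹ ∈ S) ∨ (∀ s ∈ S, ∀ t ∈ S, Commute (g * s * g⁻¹) t)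

theorem IsComp.center {S : Subgroup X} (hS : IsComp S) {z : X} (hz : z ∈ S) (h : ∀ s ∈ S, Commute z s) : z = 1 := by
  have := hS.simple
  have h1 : Subgroup.center ↥S = ⊥ := by
    rcases (inferInstance : (Subgroup.center ↥S).Normal).eq_bot_or_eq_top with h1 | h1
    · exact h1
    · exfalso
      obtain ⟨a, b, hab⟩ := hS.noncomm
      have h2 : a ∈ Subgroup.center ↥S := by rw [h1]; trivial
      exact hab ((Subgroup.mem_center_iff.1 h2 b).symm)
  have h2 : (⟨z, hz⟩ : ↥S) ∈ Subgroup.center ↥S := by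
    rw [Subgroup.mem_center_iff]
    intro s
    exact Subtype.ext (h s s.2).eq.symm
  rw [h1, Subgroup.mem_bot] at h2
  exact congrArg Subtype.val h2

theorem IsComp.two_dvd [Finite X] {S : Subgroup X} (hS : IsComp S) : 2 ∣ Nat.card ↥S := by
  by_contra h2
  have hodd : Odd (Nat.card ↥S) := Nat.not_even_iff_odd.1 fun h => h2 h.two_dvd
  have := hS.simple
  have hs := Cfsg.Agent.S0205.result hodd
  obtain ⟨a, b, hab⟩ := hS.noncomm
  exact hab (IsSimpleGroup.comm_iff_isSolvable.2 hs a b)

/-- a normal nonabelian simple subgroup -/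
theorem isComp_of_normal {S : Subgroup X} (hn : S.Normal) (hs : IsSimpleGroup ↥S) (hc : ∃ a b : ↥S, a * b ≠ b * a) :
    IsComp S := ⟨hs, hc, fun g => Or.inl fun s h => hn.conj_mem s h g⟩

/-- **A finite group without solvable normal subgroups has a component.** -/
theorem exists_comp [Finite X] [Nontrivial X]
    (h : ∀ M : Subgroup X, M.Normal → Group.IsSolvable ↥M → M = ⊥) : ∃ S : Subgroup X, IsComp S := by
  classical
  -- a minimal normal subgroup
  obtain ⟨N, ⟨hNn, hN1⟩, hmin⟩ : ∃ N : Subgroup X, (N.Normal ∧ N ≠ ⊥) ∧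
      ∀ M : Subgroup X, (M.Normal ∧ M ≠ ⊥) → M ≤ N → M = N := by
    have hfin : (Set.Finite {N : Subgroup X | N.Normal ∧ N ≠ ⊥}) := Set.toFinite _
    obtain ⟨N, hN⟩ := hfin.exists_minimal ⟨⊤, (inferInstance : (⊤ : Subgroup X).Normal), top_ne_bot⟩
    exact ⟨N, hN.prop, fun M hM hMN => le_antisymm hMN (hN.le_of_le hM hMN)⟩
  have hmin' : ∀ M : Subgroup X, M.Normal → M ≤ N → M = ⊥ ∨ M = N := fun M hM hMN => by
    by_cases h0 : M = ⊥
    · exact Or.inl h0
    · exact Or.inr (hmin M ⟨hM, h0⟩ hMN)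
  have hna : ¬ ∀ x ∈ N, ∀ y ∈ N, Commute x y := by
    intro hab
    apply hN1
    apply h N hNn
    have : IsMulCommutative ↥N := ⟨⟨fun a b => Subtype.ext (hab a a.2 b b.2)⟩⟩
    exact Group.isSolvable_of_comm fun a b => Subtype.ext (hab a a.2 b b.2)
  obtain ⟨⟨T, hT⟩, -, -, h4, h5, -⟩ := Cfsg.Agent.Lib.MinNormalNonabelian.nonabelian_structure N hmin' hna
  have hTs := h4 T hT
  refine ⟨T, hTs, ?_, ?_⟩
  · by_contra hcon
    push Not at hcon
    apply hT.2.1
    rw [eq_bot_iff]
    intro z hz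
    exact h5 T hT z hz fun t ht => congrArg Subtype.val (hcon ⟨z, hz⟩ ⟨t, ht⟩)
  · intro g
    set T' := T.map (MulAut.conj g).toMonoidHom with hT'
    have hmem' : ∀ s ∈ T, g * s * g⁻¹ ∈ T' := fun s hs => ⟨s, hs, rfl⟩
    have hT'm := Cfsg.Agent.Lib.MinNormalNonabelian.map_conj_mem_minSet hT g
    rw [← hT'] at hT'm
    by_cases he : T' = T
    · left
      intro s hs
      rw [← he]
      exact hmem' s hs
    · right
      obtain ⟨a1, a2, a3, a4⟩ := hT
      obtain ⟨b1, b2, b3, b4⟩ := hT'm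
      have hinf : T' ⊓ T = ⊥ := by
        have hN' : N ≤ normalizer ((T' ⊓ T : Subgroup X) : Set X) := by
          intro n hn
          rw [Subgroup.mem_normalizer_iff]
          intro y
          rw [Subgroup.mem_inf, Subgroup.mem_inf, ← Subgroup.mem_normalizer_iff.1 (b3 hn) y,
            ← Subgroup.mem_normalizer_iff.1 (a3 hn) y]
        rcases a4 (T' ⊓ T) inf_le_right hN' with h6 | h6
        · exact h6
        · exfalso
          have h7 : T ≤ T' := by rw [← h6]; exact inf_le_left
          rcases b4 T h7 a3 with h8 | h8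
          · exact a2 h8
          · exact he h8.symm
      intro s hs t ht
      have hs' := hmem' s hs
      rw [← commutatorElement_eq_one_iff_commute, ← Subgroup.mem_bot, ← hinf]
      refine Subgroup.mem_inf.2 ⟨?_, ?_⟩
      · rw [commutatorElement_def, mul_assoc, mul_assoc, ← mul_assoc t]
        exact mul_mem hs' ((Subgroup.mem_normalizer_iff.1 (b3 (a1 ht)) _).1 (inv_mem hs'))
      · rw [commutatorElement_def]
        exact mul_mem ((Subgroup.mem_normalizer_iff.1 (a3 (b1 hs')) _).1 ht) (inv_mem ht)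

/-- **An extension of a `Good` group by a cyclic group of order `p`.** -/
theorem exists_two_mul_of_ext [Finite X] {S : Subgroup X} (hS : Good ↥S) {p : ℕ} (hp : p.Prime) (hp2 : p ≠ 2) {z : X}
    (hz : ∀ s ∈ S, z * s * z⁻¹ ∈ S) (hzS : z ∉ S) (hzp : z ^ p ∈ S) : ∃ y : X, orderOf y = 2 * p := by
  have hzn : z ∈ normalizer (S : Set X) := by
    rw [Subgroup.mem_normalizer_iff]
    intro s
    constructor
    · exact hz s
    · intro h
      have hfin : Finite X := inferInstance
      -- `z⁻¹` is a power of `z`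
      have h1 : ∀ n : ℕ, ∀ s ∈ S, z ^ n * s * (z ^ n)⁻¹ ∈ S := by
        intro n
        induction n with
        | zero => intro s hs; simpa using hs
        | succ n ih =>
          intro s hs
          have h2 := hz _ (ih s hs)
          have h3 : z * (z ^ n * s * (z ^ n)⁻¹) * z⁻¹ = z ^ (n + 1) * s * (z ^ (n + 1))⁻¹ := by
            rw [pow_succ']; group
          rwa [h3] at h2
      have h2 : z⁻¹ = z ^ (orderOf z - 1) := by
        rw [inv_eq_iff_mul_eq_one, ← pow_succ', Nat.sub_add_cancel (orderOf_pos z), pow_orderOf_eq_one]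
      have h3 := h1 (orderOf z - 1) _ h
      rw [← h2, inv_inv] at h3
      have h4 : z⁻¹ * (z * s * z⁻¹) * z = s := by group
      rwa [h4] at h3
  set H : Subgroup X := S ⊔ zpowers z with hH
  have hSH : S ≤ H := le_sup_left
  have hzH : z ∈ H := (le_sup_right : zpowers z ≤ H) (mem_zpowers z)
  have hHn : H ≤ normalizer (S : Set X) := sup_le le_normalizer (by rwa [zpowers_le])
  have hn : (S.subgroupOf H).Normal := by
    constructor
    intro s hs h
    rw [Subgroup.mem_subgroupOf] at hs ⊢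
    exact (Subgroup.mem_normalizer_iff.1 (hHn h.2) _).1 hs
  have hg : Good ↥(S.subgroupOf H) := Good.congr (subgroupOfEquivOfLe hSH) hS
  let z' : ↥H := ⟨z, hzH⟩
  -- the quotient is generated by the image of `z`
  have hgen : zpowers (QuotientGroup.mk' (S.subgroupOf H) z') = ⊤ := by
    have h1 : (⊤ : Subgroup ↥H) = S.subgroupOf H ⊔ zpowers z' := by
      apply Subgroup.map_injective H.subtype_injective
      rw [Subgroup.map_sup, Subgroup.subgroupOf_map_subtype, MonoidHom.map_zpowers, ← MonoidHom.range_eq_map,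
        Subgroup.range_subtype, inf_of_le_left hSH]
      rfl
    have h2 := congrArg (Subgroup.map (QuotientGroup.mk' (S.subgroupOf H))) h1
    rw [Subgroup.map_sup, MonoidHom.map_zpowers, QuotientGroup.map_mk'_self, bot_sup_eq,
      Subgroup.map_top_of_surjective _ (QuotientGroup.mk'_surjective _)] at h2
    exact h2.symm
  have hord : orderOf (QuotientGroup.mk' (S.subgroupOf H) z') = p := by
    apply orderOf_eq_prime (hp := ⟨hp⟩)
    · rw [← map_pow]
      show ((z' ^ p : ↥H) : ↥H ⧸ S.subgroupOf H) = 1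
      rw [QuotientGroup.eq_one_iff, Subgroup.mem_subgroupOf]
      exact hzp
    · show ((z' : ↥H) : ↥H ⧸ S.subgroupOf H) ≠ 1
      rw [Ne, QuotientGroup.eq_one_iff, Subgroup.mem_subgroupOf]
      exact hzS
  have hidx : (S.subgroupOf H).index = p := by
    rw [Subgroup.index_eq_card, ← hord, ← Nat.card_zpowers, hgen]
    exact (Nat.card_congr Subgroup.topEquiv.toEquiv).symm
  exact exists_order_subgroup (exists_two_mul hp hp2 (S.subgroupOf H) hidx hg)

/-- `x` of order `p` moves the component `S`. -/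
theorem exists_two_mul_of_move [Finite X] {S : Subgroup X} (hS : IsComp S) {p : ℕ} (hp : p.Prime) (hp2 : p ≠ 2)
    {x : X} (hx : orderOf x = p) (hxS : ¬ ∀ s ∈ S, x * s * x⁻¹ ∈ S) : ∃ y : X, orderOf y = 2 * p := by
  have hp' := Fact.mk hp
  obtain ⟨t', ht'⟩ := exists_prime_orderOf_dvd_card' 2 hS.two_dvd
  set t : X := (t' : X) with ht
  have htS : t ∈ S := t'.2
  have hto : orderOf t = 2 := by rw [ht, Subgroup.orderOf_coe, ht']
  have htt : t * t = 1 := by
    have h1 := pow_orderOf_eq_one t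
    rwa [hto, pow_two] at h1
  -- the powers of `x`
  have hpow : ∀ i : ℕ, 0 < i → i < p → ∀ s ∈ S, ∀ u ∈ S, Commute (x ^ i * s * (x ^ i)⁻¹) u := by
    intro i hi hip
    rcases hS.conj (x ^ i) with h1 | h1
    · exfalso
      apply hxS
      have h2 : ∀ n : ℕ, ∀ s ∈ S, (x ^ i) ^ n * s * ((x ^ i) ^ n)⁻¹ ∈ S := by
        intro n
        induction n with
        | zero => intro s hs; simpa using hs
        | succ n ih =>
          intro s hs
          have h3 := h1 _ (ih s hs)
          have h4 : x ^ i * ((x ^ i) ^ n * s * ((x ^ i) ^ n)⁻¹) * (x ^ i)⁻¹ =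
              (x ^ i) ^ (n + 1) * s * ((x ^ i) ^ (n + 1))⁻¹ := by
            rw [pow_succ' (x ^ i) n]; group
          rwa [h4] at h3
      have hcop : Nat.Coprime i p := by
        rw [Nat.coprime_comm, hp.coprime_iff_not_dvd]
        intro hd
        exact absurd (Nat.le_of_dvd hi hd) (by omega)
      obtain ⟨m, hm⟩ : ∃ m : ℕ, (x ^ i) ^ m = x := by
        obtain ⟨m, hm⟩ := Nat.exists_mul_mod_eq_one_of_coprime hcop hp.one_lt
        refine ⟨m, ?_⟩
        rw [← pow_mul]
        have h5 : x ^ (i * m) = x ^ 1 := pow_eq_pow_iff_modEq.2 (by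
          rw [hx]
          unfold Nat.ModEq
          rw [hm.2, Nat.mod_eq_of_lt hp.one_lt])
        rw [h5, pow_one]
      intro s hs
      have h3 := h2 m s hs
      rwa [hm] at h3
    · exact h1
  -- `u n = (t x) ^ n x ^ (-n)`
  let u : ℕ → X := fun n => (t * x) ^ n * (x ^ n)⁻¹
  have husucc : ∀ n, u (n + 1) = u n * (x ^ n * t * (x ^ n)⁻¹) := by
    intro n
    show (t * x) ^ (n + 1) * (x ^ (n + 1))⁻¹ = (t * x) ^ n * (x ^ n)⁻¹ * (x ^ n * t * (x ^ n)⁻¹)
    rw [pow_succ, pow_succ]
    group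
  have key : ∀ n : ℕ, n < p → (∀ j, n < j → j < p → ∀ s ∈ S, Commute (u (n + 1)) (x ^ j * s * (x ^ j)⁻¹)) ∧
      u (n + 1) * u (n + 1) = 1 ∧ (∀ s ∈ S, Commute (t⁻¹ * u (n + 1)) s) := by
    intro n
    induction n with
    | zero =>
      intro _
      have h0 : u (0 + 1) = t := by
        rw [husucc]
        show (t * x) ^ 0 * (x ^ 0)⁻¹ * (x ^ 0 * t * (x ^ 0)⁻¹) = t
        simp
      rw [h0]
      refine ⟨fun j hj hjp s hs => (hpow j hj hjp s hs t htS).symm, htt, fun s _ => ?_⟩
      rw [inv_mul_cancel]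
      exact Commute.one_left s
    | succ n ih =>
      intro hn
      obtain ⟨h1, h2, h3⟩ := ih (by omega)
      have hc : Commute (u (n + 1)) (x ^ (n + 1) * t * (x ^ (n + 1))⁻¹) := h1 (n + 1) (by omega) hn t htS
      rw [husucc (n + 1)]
      refine ⟨?_, ?_, ?_⟩
      · intro j hj hjp s hs
        refine (h1 j (by omega) hjp s hs).mul_left ?_
        have h4 := hpow (j - (n + 1)) (by omega) (by omega) s hs t htS
        have h5 := congrArg (fun w => x ^ (n + 1) * w * (x ^ (n + 1))⁻¹) h4.eq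
        have h6 : x ^ j = x ^ (n + 1) * x ^ (j - (n + 1)) := by rw [← pow_add]; congr 1; omega
        show x ^ (n + 1) * t * (x ^ (n + 1))⁻¹ * (x ^ j * s * (x ^ j)⁻¹) =
          x ^ j * s * (x ^ j)⁻¹ * (x ^ (n + 1) * t * (x ^ (n + 1))⁻¹)
        rw [h6]
        calc x ^ (n + 1) * t * (x ^ (n + 1))⁻¹ * (x ^ (n + 1) * x ^ (j - (n + 1)) * s *
              (x ^ (n + 1) * x ^ (j - (n + 1)))⁻¹) =
            x ^ (n + 1) * (t * (x ^ (j - (n + 1)) * s * (x ^ (j - (n + 1)))⁻¹)) * (x ^ (n + 1))⁻¹ := by group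
          _ = x ^ (n + 1) * (x ^ (j - (n + 1)) * s * (x ^ (j - (n + 1)))⁻¹ * t) * (x ^ (n + 1))⁻¹ := h5.symm
          _ = _ := by group
      · rw [hc.symm.mul_mul_mul_comm, h2, one_mul]
        have h4 : x ^ (n + 1) * t * (x ^ (n + 1))⁻¹ * (x ^ (n + 1) * t * (x ^ (n + 1))⁻¹) =
            x ^ (n + 1) * (t * t) * (x ^ (n + 1))⁻¹ := by group
        rw [h4, htt]; group
      · intro s hs
        rw [← mul_assoc]
        exact (h3 s hs).mul_left (hpow (n + 1) (by omega) hn t htS s hs)
  obtain ⟨-, h2, h3⟩ := key (p - 1) (by have := hp.two_le; omega)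
  rw [show p - 1 + 1 = p by have := hp.two_le; omega] at h2 h3
  have hup : u p = (t * x) ^ p := by
    show (t * x) ^ p * (x ^ p)⁻¹ = (t * x) ^ p
    rw [← hx, pow_orderOf_eq_one, inv_one, mul_one]
  have hu1 : u p ≠ 1 := by
    intro h
    rw [h, mul_one] at h3
    have h4 := hS.center (inv_mem htS) h3
    rw [inv_eq_one] at h4
    rw [h4, orderOf_one] at hto
    norm_num at hto
  have hcu : Commute (u p) t := by
    have h4 : Commute (t⁻¹ * u p) t := h3 t htS
    have h5 : u p = t * (t⁻¹ * u p) := by group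
    rw [h5]
    exact (Commute.refl t).mul_left h4
  have hcx : Commute (u p) x := by
    have h4 : Commute (u p) (t * x) := by
      rw [hup]
      exact (Commute.refl _).pow_left p
    have h5 : x = t⁻¹ * (t * x) := by group
    rw [h5]
    exact (hcu.inv_right).mul_right h4
  refine exists_order_mul_of_commute Nat.prime_two hp hp2.symm ?_ hx hcx
  exact orderOf_eq_prime (by rw [pow_two]; exact h2) hu1

/-- **The component of a group in which the odd prime divisor `p` of the order is not adjacent to 2.** -/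
theorem comp_of_nonadj [Finite X] {S : Subgroup X} (hS : IsComp S) (hg : Good ↥S) {p : ℕ} (hp : p.Prime) (hp2 : p ≠ 2)
    (hpX : p ∣ Nat.card X) (h : ¬ ∃ x : X, orderOf x = 2 * p) :
    S.Normal ∧ p ∣ Nat.card ↥S ∧ ¬ p ∣ S.index ∧ Odd (Nat.card ↥(centralizer (S : Set X))) := by
  have hp' := Fact.mk hp
  have hpS : p ∣ Nat.card ↥S := by
    by_contra hpS
    obtain ⟨x, hx⟩ := exists_prime_orderOf_dvd_card' p hpX
    by_cases hxS : ∀ s ∈ S, x * s * x⁻¹ ∈ S
    · apply h
      refine exists_two_mul_of_ext hg hp hp2 hxS ?_ ?_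
      · intro hx'
        apply hpS
        have h1 : orderOf (⟨x, hx'⟩ : ↥S) = p := by rw [← Subgroup.orderOf_coe]; exact hx
        rw [← h1]
        exact orderOf_dvd_natCard _
      · rw [← hx, pow_orderOf_eq_one]; exact one_mem _
    · exact h (exists_two_mul_of_move hS hp hp2 hx hxS)
  obtain ⟨x, hx⟩ := exists_prime_orderOf_dvd_card' p hpS
  have hx' : orderOf (x : X) = p := by rw [Subgroup.orderOf_coe, hx]
  obtain ⟨t, ht⟩ := exists_prime_orderOf_dvd_card' 2 hS.two_dvd
  have ht' : orderOf (t : X) = 2 := by rw [Subgroup.orderOf_coe, ht]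
  have hn : ∀ g : X, ∀ s ∈ S, g * s * g⁻¹ ∈ S := by
    intro g
    rcases hS.conj g with h1 | h1
    · exact h1
    · exfalso
      apply h
      refine exists_order_mul_of_commute Nat.prime_two hp hp2.symm (x := g * t * g⁻¹) ?_ hx' (h1 t t.2 x x.2)
      have h2 : orderOf ((MulAut.conj g) (t : X)) = orderOf (t : X) := MulEquiv.orderOf_eq _ _
      rw [MulAut.conj_apply] at h2
      rw [h2, ht']
  have hnorm : S.Normal := ⟨fun s hs g => hn g s hs⟩
  refine ⟨hnorm, hpS, ?_, ?_⟩
  · intro hd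
    rw [Subgroup.index_eq_card] at hd
    obtain ⟨y, hy⟩ := exists_prime_orderOf_dvd_card' p hd
    obtain ⟨z, rfl⟩ := QuotientGroup.mk'_surjective S y
    apply h
    refine exists_two_mul_of_ext hg hp hp2 (z := z) (hn z) ?_ ?_
    · intro hz
      have h1 : QuotientGroup.mk' S z = 1 := (QuotientGroup.eq_one_iff z).2 hz
      rw [h1, orderOf_one] at hy
      exact hp.one_lt.ne hy
    · rw [← QuotientGroup.eq_one_iff]
      have h1 := pow_orderOf_eq_one (QuotientGroup.mk' S z)
      rw [hy, ← map_pow] at h1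
      exact h1
  · rw [← Nat.not_even_iff_odd]
    intro he
    apply h
    obtain ⟨y, hy⟩ := exists_order_mul_of_dvd_centralizer hp Nat.prime_two hp2 hx' (centralizer (S : Set X))
      (fun c hc => Subgroup.mem_centralizer_iff.1 hc x x.2) he.two_dvd
    exact ⟨y, by rw [hy, mul_comm]⟩

/-- **The structure theorem, `p ∣ |X|`.** -/
theorem structure_of_dvd [Finite X] [Nontrivial X]
    (hsol : ∀ M : Subgroup X, M.Normal → Group.IsSolvable ↥M → M = ⊥)
    (hg : ∀ S : Subgroup X, IsComp S → Good ↥S) {p : ℕ} (hp : p.Prime) (hp2 : p ≠ 2)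
    (hpX : p ∣ Nat.card X) (h : ¬ ∃ x : X, orderOf x = 2 * p) :
    ∃ S : Subgroup X, IsComp S ∧ S.Normal ∧ p ∣ Nat.card ↥S ∧ ¬ p ∣ S.index ∧ centralizer (S : Set X) = ⊥ := by
  obtain ⟨S, hS⟩ := exists_comp hsol
  obtain ⟨h1, h2, h3, h4⟩ := comp_of_nonadj hS (hg S hS) hp hp2 hpX h
  exact ⟨S, hS, h1, h2, h3, hsol _ inferInstance (Cfsg.Agent.S0205.result h4)⟩

/-- Normal nonabelian simple subgroups with trivial centralizer are unique. -/
theorem eq_of_normal {S T : Subgroup X} (hS : IsComp S) (hT : IsComp T) (hSn : S.Normal) (hTn : T.Normal)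
    (hSc : centralizer (S : Set X) = ⊥) : T = S := by
  have hd : S ⊓ T ≠ ⊥ := by
    intro hd
    have h1 : T ≤ centralizer (S : Set X) := by
      intro t ht
      rw [Subgroup.mem_centralizer_iff]
      intro s hs
      exact Subgroup.commute_of_normal_of_disjoint S T hSn hTn (disjoint_iff.2 hd) s t hs ht
    rw [hSc] at h1
    obtain ⟨a, b, hab⟩ := hT.noncomm
    apply hab
    have ha : a = 1 := Subtype.ext (Subgroup.mem_bot.1 (h1 a.2))
    rw [ha, one_mul, mul_one]
  have := hS.simple
  have := hT.simple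
  have h1 : (T.subgroupOf S).Normal := inferInstance
  have h2 : (S.subgroupOf T).Normal := inferInstance
  have hST : S ≤ T := by
    rcases h1.eq_bot_or_eq_top with h3 | h3
    · exfalso
      apply hd
      rw [Subgroup.subgroupOf_eq_bot, disjoint_iff] at h3
      rw [inf_comm]
      exact h3
    · exact Subgroup.subgroupOf_eq_top.1 h3
  have hTS : T ≤ S := by
    rcases h2.eq_bot_or_eq_top with h3 | h3
    · exfalso
      apply hd
      rw [Subgroup.subgroupOf_eq_bot, disjoint_iff] at h3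
      exact h3
    · exact Subgroup.subgroupOf_eq_top.1 h3
  exact le_antisymm hTS hST

end Cfsg.Agent.H414.Comp
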