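import Cfsg.Agent.H414.Psl.L8_3

/-!
# `PSL(8, 3)` and groups of Lie type in characteristic 2 (helper414)

`no_two` : a nonabelian composition factor of a group isospectral to `PSL(8, 3)` is not of Lie type in characteristic 2.
-/

set_option autoImplicit false

namespace Cfsg.Agent.H414.Psl8_3

open Cfsg Cfsg.Agent.H414.Arith Cfsg.Agent.H414.LieShape Cfsg.Agent.H414.RelB Cfsg.Agent.H414.Vasiliev
  Cfsg.Agent.H414.Spec Cfsg.Agent.H414.PslData Cfsg.Agent.H414.Psl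

theorem pow11 (k : ℕ) : (2 : ZMod 11) ^ k = 2 ^ (k % 10) := by
  conv_lhs => rw [← Nat.div_add_mod k 10]
  rw [pow_add, pow_mul, show (2 : ZMod 11) ^ 10 = 1 by decide, one_pow, one_mul]

theorem pow41 (k : ℕ) : (2 : ZMod 41) ^ k = 2 ^ (k % 20) := by
  conv_lhs => rw [← Nat.div_add_mod k 20]
  rw [pow_add, pow_mul, show (2 : ZMod 41) ^ 20 = 1 by decide, one_pow, one_mul]

theorem one11 {k : ℕ} (h : (2 : ZMod 11) ^ k = 1) : k % 10 = 0 := by
  rw [pow11] at h
  have : ∀ b < 10, (2 : ZMod 11) ^ b = 1 → b = 0 := by decide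
  exact this _ (Nat.mod_lt _ (by norm_num)) h

theorem neg11 {k : ℕ} (h : (2 : ZMod 11) ^ k = -1) : k % 10 = 5 := by
  rw [pow11] at h
  have : ∀ b < 10, (2 : ZMod 11) ^ b = -1 → b = 5 := by decide
  exact this _ (Nat.mod_lt _ (by norm_num)) h

theorem one41 {k : ℕ} (h : (2 : ZMod 41) ^ k = 1) : k % 20 = 0 := by
  rw [pow41] at h
  have : ∀ b < 20, (2 : ZMod 41) ^ b = 1 → b = 0 := by decide
  exact this _ (Nat.mod_lt _ (by norm_num)) h

theorem neg41 {k : ℕ} (h : (2 : ZMod 41) ^ k = -1) : k % 20 = 10 := by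
  rw [pow41] at h
  have : ∀ b < 20, (2 : ZMod 41) ^ b = -1 → b = 10 := by decide
  exact this _ (Nat.mod_lt _ (by norm_num)) h

theorem dvd31 {k : ℕ} (h : k % 5 = 0) : 31 ∣ 2 ^ k - 1 := by
  rw [dvd_sub_iff (by norm_num)]
  obtain ⟨t, rfl⟩ := Nat.dvd_of_mod_eq_zero h
  push_cast
  rw [pow_mul, show (2 : ZMod 31) ^ 5 = 1 by decide, one_pow]

theorem tri11 {f : ℕ} (h : 11 ∣ (2 ^ f) ^ 8 + (2 ^ f) ^ 4 + 1) : False := by
  rw [← ZMod.natCast_eq_zero_iff] at h
  push_cast at h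
  rw [← pow_mul, ← pow_mul, pow11, pow11 (f * 4)] at h
  have h1 : f * 8 % 10 = (f % 10) * 8 % 10 := by omega
  have h2 : f * 4 % 10 = (f % 10) * 4 % 10 := by omega
  rw [h1, h2] at h
  have : ∀ b < 10, (2 : ZMod 11) ^ (b * 8 % 10) + 2 ^ (b * 4 % 10) + 1 ≠ 0 := by decide
  exact this _ (Nat.mod_lt _ (by norm_num)) h

theorem tri41 {f : ℕ} (h : 41 ∣ (2 ^ f) ^ 8 + (2 ^ f) ^ 4 + 1) : False := by
  rw [← ZMod.natCast_eq_zero_iff] at h
  push_cast at h
  rw [← pow_mul, ← pow_mul, pow41, pow41 (f * 4)] at h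
  have h1 : f * 8 % 20 = (f % 20) * 8 % 20 := by omega
  have h2 : f * 4 % 20 = (f % 20) * 4 % 20 := by omega
  rw [h1, h2] at h
  have : ∀ b < 20, (2 : ZMod 41) ^ (b * 8 % 20) + 2 ^ (b * 4 % 20) + 1 ≠ 0 := by decide
  exact this _ (Nat.mod_lt _ (by norm_num)) h

theorem mod5 {f i j : ℕ} (h1 : f * i % 10 = 5) (h2 : f * j % 20 = 10) : Odd i ∧ Even j := by
  have hi : Odd (f * i) := Nat.odd_iff.2 (by omega)
  have hfo : Odd f := (Nat.odd_mul.1 hi).1
  have hj : Even (f * j) := Nat.even_iff.2 (by omega)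
  refine ⟨(Nat.odd_mul.1 hi).2, ?_⟩
  rcases Nat.even_mul.1 hj with h | h
  · exact absurd h (Nat.not_even_iff_odd.2 hfo)
  · exact h

theorem false_of_shape {c f d N : ℕ} {l : List Fac} (h : ShapeD 2 c f d N l) (h11 : 11 ∣ c) (h41 : 41 ∣ c)
    (h31 : ¬ 31 ∣ c) : False := by
  have key : ∀ i, Fac.sub i ∈ l → f * i % 5 ≠ 0 := by
    intro i hi h5
    refine h31 (h.dvd_of_fac (by norm_num) (by norm_num) hi ?_)
    show 31 ∣ (2 ^ f) ^ i - 1
    rw [← pow_mul]
    exact dvd31 h5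
  obtain ⟨x, hx, hxv⟩ := h.exists_fac Nat.prime_two (u := 11) (by norm_num) (by norm_num) h11
  obtain ⟨y, hy, hyv⟩ := h.exists_fac Nat.prime_two (u := 41) (by norm_num) (by norm_num) h41
  have hxi : ∃ i, Fac.add i ∈ l ∧ f * i % 10 = 5 := by
    cases x with
    | sub i =>
      exfalso
      change 11 ∣ (2 ^ f) ^ i - 1 at hxv
      rw [← pow_mul, dvd_sub_iff (by norm_num)] at hxv
      push_cast at hxv
      have := one11 hxv
      exact key i hx (by omega)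
    | add i =>
      change 11 ∣ (2 ^ f) ^ i + 1 at hxv
      rw [← pow_mul, dvd_add_iff] at hxv
      push_cast at hxv
      exact ⟨i, hx, neg11 hxv⟩
    | tri => exact (tri11 hxv).elim
  have hyj : ∃ j, Fac.add j ∈ l ∧ f * j % 20 = 10 := by
    cases y with
    | sub i =>
      exfalso
      change 41 ∣ (2 ^ f) ^ i - 1 at hyv
      rw [← pow_mul, dvd_sub_iff (by norm_num)] at hyv
      push_cast at hyv
      have := one41 hyv
      exact key i hy (by omega)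
    | add i =>
      change 41 ∣ (2 ^ f) ^ i + 1 at hyv
      rw [← pow_mul, dvd_add_iff] at hyv
      push_cast at hyv
      exact ⟨i, hy, neg41 hyv⟩
    | tri => exact (tri41 hyv).elim
  obtain ⟨i, hi, hi5⟩ := hxi
  obtain ⟨j, hj, hj10⟩ := hyj
  obtain ⟨ho, he⟩ := mod5 hi5 hj10
  obtain ⟨h3, h1⟩ := h.mix i j hi hj ho he
  refine key 1 h1 ?_
  subst h3
  omega

/-- **No group of Lie type of characteristic 2.** -/
theorem no_two {F : Type*} [Field F] [Fintype F] (hF : Fintype.card F = 3)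
    (hdisc : (∃ A : Set ℕ, (∃ r ∈ A, r.Prime ∧ r ∣ Nat.card (Matrix.ProjectiveSpecialLinearGroup (Fin 8) F)) ∧
      (∃ s ∉ A, s.Prime ∧ s ∣ Nat.card (Matrix.ProjectiveSpecialLinearGroup (Fin 8) F)) ∧
      ∀ r ∈ A, ∀ s ∉ A, r.Prime → s.Prime → r ∣ Nat.card (Matrix.ProjectiveSpecialLinearGroup (Fin 8) F) →
        s ∣ Nat.card (Matrix.ProjectiveSpecialLinearGroup (Fin 8) F) →
        ¬ ∃ x : (Matrix.ProjectiveSpecialLinearGroup (Fin 8) F), orderOf x = r * s))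
    {G : Type*} [Group G] [Finite G]
    (h : Set.range (orderOf : G → ℕ) = Set.range (orderOf : Matrix.ProjectiveSpecialLinearGroup (Fin 8) F → ℕ))
    (H : Subgroup G) (hH : H.IsSubnormal) (N : Subgroup ↥H) [N.Normal]
    (hs : IsSimpleGroup (↥H ⧸ N)) (hna : ¬ IsMulCommutative (↥H ⧸ N))
    (hlie : Cfsg.IsLieTypeChar 2 (↥H ⧸ N)) : False := by
  have hg := good_of_ldB L8_3_ok
  have hfin : Finite (Matrix.ProjectiveSpecialLinearGroup (Fin 8) F) := inferInstance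
  obtain ⟨h1, h2⟩ := frame h hdisc H hH N hs hna
  have hsh := shape_of_lie Nat.prime_two hlie
  have hc := coc (F := F) hg hF
  have h3 := h2 _ hc (card_coc hg)
  have m1093 : (1093 : ℕ) ∈ (L8_3.tops.map Prod.snd).toFinset := by decide
  have m11 : (11 : ℕ) ∈ (L8_3.tops.map Prod.snd).toFinset := by decide
  have m41 : (41 : ℕ) ∈ (L8_3.tops.map Prod.snd).toFinset := by decide
  have hout : ∀ v, outB L8_3 v = true → ¬ v ∣ Nat.card (↥H ⧸ N) := by
    intro v hv hd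
    obtain ⟨b1, -, b3⟩ := not_dvd_of_outB (F := F) hg hF hv
    exact b3 (h1 v b1 hd)
  have hn1093 : ¬ 1093 ∣ Nat.card (↥H ⧸ N) := by
    intro hd
    have hrel : relB L8_3.ch 2 ⟨1093, 29, 364, 28, [(2, 2, 2), (7, 1, 1)], 2, 0⟩ = true := by decide +kernel
    obtain ⟨e1, e2, e3⟩ := rel_of_relB hg.ch Nat.prime_two (by norm_num) (by decide) hrel
    exact hout 29 (by decide +kernel) (hsh.dvd Nat.prime_two (by norm_num) (by norm_num) e1 e2 e3 hd)
  have h11 := (h3 1093 m1093 11 m11 (by norm_num)).resolve_left hn1093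
  have h41 := (h3 1093 m1093 41 m41 (by norm_num)).resolve_left hn1093
  obtain ⟨f, d, M, l, hD⟩ := hsh
  exact false_of_shape hD h11 h41 (hout 31 (by decide +kernel))

end Cfsg.Agent.H414.Psl8_3
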