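import Cfsg.Agent.H414.Spec
import Cfsg.Agent.H414.RelB
import Cfsg.Agent.S2468

/-!
# Composition factors of groups isospectral to `PSL(n, q)`: certificates (helper414)

`LD` : data for `PSL(n, q)`; `ldB` : the check; `main` : no nonabelian composition factor of Lie type of characteristic
`r ≠ p`, `r` not in the list `skip`.
-/

set_option autoImplicit false

namespace Cfsg.Agent.H414.PslData

open Cfsg Cfsg.Agent.H414.Arith Cfsg.Agent.H414.LieShape Cfsg.Agent.H414.RelB Cfsg.Agent.H414.Vasiliev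
  Cfsg.Agent.H414.Spec

/-- the data -/
structure LD where
  n : ℕ
  q : ℕ
  p : ℕ
  a : ℕ
  fac : List (ℕ × ℕ)
  tops : List (ℕ × ℕ)
  A : List (ℕ × ℕ)
  B : List (ℕ × RC × RC)
  skip : List ℕ
  ch : List (ℕ × ℕ × List (ℕ × ℕ))

/-- `∏_{i < n} (q ^ (i + 1) - 1)` -/
def prodQ (q : ℕ) : ℕ → ℕ
  | 0 => 1
  | n + 1 => prodQ q n * (q ^ (n + 1) - 1)

theorem prodQ_eq (q n : ℕ) : prodQ q n = ∏ i ∈ Finset.range n, (q ^ (i + 1) - 1) := by
  induction n with
  | zero => rfl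
  | succ n ih => rw [Finset.prod_range_succ, ← ih]; rfl

/-- `(k, u)` : `u` is a prime, `k` the order of `q` modulo `u`, `n / 2 < k ≤ n` -/
def topB (D : LD) (x : ℕ × ℕ) : Bool :=
  isP D.ch x.2 && Nat.blt 4 x.2 && Nat.ble x.1 D.n && Nat.blt D.n (2 * x.1) && Nat.beq (D.q ^ x.1 % x.2) 1 &&
    (List.range x.1).all fun j => Nat.beq j 0 || !(Nat.beq (D.q ^ j % x.2) 1)

/-- no duplicates, for the kernel -/
def nodupB : List ℕ → Bool
  | [] => true
  | x :: l => (l.all fun y => !(Nat.beq x y)) && nodupB l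

theorem nodup_of_nodupB : ∀ {l : List ℕ}, nodupB l = true → l.Nodup
  | [], _ => List.nodup_nil
  | x :: l, h => by
    unfold nodupB at h
    rw [Bool.and_eq_true, List.all_eq_true] at h
    rw [List.nodup_cons]
    refine ⟨fun hx => ?_, nodup_of_nodupB h.2⟩
    have h1 := h.1 x hx
    rw [Bool.not_eq_true', ← Bool.not_eq_true, Nat.beq_eq] at h1
    exact h1 rfl

/-- `v` is a prime at least 5 not dividing the order -/
def outB (D : LD) (v : ℕ) : Bool :=
  isP D.ch v && Nat.blt 4 v && !(Nat.beq v D.p) && D.fac.all fun x => !(Nat.beq x.1 v)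

/-- the check for a relation -/
def rcB (D : LD) (r : ℕ) (c : RC) : Bool :=
  !(Nat.beq c.u r) && outB D c.v && (D.tops.any fun x => Nat.beq x.2 c.u) && relB D.ch r c &&
    nodupB (c.ls.map Prod.fst)

/-- the check -/
def ldB (D : LD) : Bool :=
  chainB [] D.ch && isP D.ch D.p && Nat.blt 0 D.a && Nat.beq (D.p ^ D.a) D.q && Nat.blt 2 D.n &&
  (D.fac.all fun x => isP D.ch x.1) && Nat.beq (prodl D.fac) (prodQ D.q D.n) &&
  (D.tops.all (topB D)) && nodupB (D.tops.map Prod.fst) && Nat.blt 2 D.tops.length &&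
  (D.fac.all fun x => (D.skip.any (Nat.beq x.1)) || (D.A.any fun y => Nat.beq x.1 y.1) ||
    (D.B.any fun y => Nat.beq x.1 y.1)) &&
  (D.A.all fun y => Nat.blt 4 y.1 && outB D y.2 && Nat.beq ((y.1 ^ 2 - 1) % y.2) 0) &&
  (D.B.all fun y => !(Nat.beq y.2.1.u y.2.2.u) && rcB D y.1 y.2.1 && rcB D y.1 y.2.2)

/-- the parts of the check -/
structure Good (D : LD) : Prop where
  ch : chainB [] D.ch = true
  p : D.p.Prime
  a : 0 < D.a
  q : D.p ^ D.a = D.q
  n : 2 < D.n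
  fac : ∀ x ∈ D.fac, (x.1).Prime
  prod : prodl D.fac = prodQ D.q D.n
  tops : ∀ x ∈ D.tops, topB D x = true
  nd : (D.tops.map Prod.fst).Nodup
  len : 2 < D.tops.length
  cover : ∀ x ∈ D.fac, x.1 ∈ D.skip ∨ (∃ y ∈ D.A, x.1 = y.1) ∨ ∃ y ∈ D.B, x.1 = y.1
  hA : ∀ y ∈ D.A, 4 < y.1 ∧ outB D y.2 = true ∧ y.2 ∣ y.1 ^ 2 - 1
  hB : ∀ y ∈ D.B, y.2.1.u ≠ y.2.2.u ∧ rcB D y.1 y.2.1 = true ∧ rcB D y.1 y.2.2 = true

theorem good_of_ldB {D : LD} (h : ldB D = true) : Good D := by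
  unfold ldB at h
  simp only [Bool.and_eq_true, Nat.blt_eq, Nat.beq_eq, List.all_eq_true, Bool.or_eq_true, Bool.not_eq_true',
    ← Bool.not_eq_true, List.any_eq_true] at h
  obtain ⟨⟨⟨⟨⟨⟨⟨⟨⟨⟨⟨⟨h1, h2⟩, h3⟩, h4⟩, h5⟩, h6⟩, h7⟩, h8⟩, h9⟩, h10⟩, h11⟩, h12⟩, h13⟩ := h
  refine ⟨h1, prime_of_isP h1 h2, h3, h4, h5, fun x hx => prime_of_isP h1 (h6 x hx), h7, h8, nodup_of_nodupB h9, h10,
    ?_, ?_, ?_⟩
  · intro x hx
    rcases h11 x hx with (⟨y, hy, h⟩ | h) | h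
    · left
      rw [h]
      exact hy
    · exact Or.inr (Or.inl h)
    · exact Or.inr (Or.inr h)
  · intro y hy
    obtain ⟨⟨a1, a2⟩, a3⟩ := h12 y hy
    exact ⟨a1, a2, Nat.dvd_of_mod_eq_zero a3⟩
  · intro y hy
    obtain ⟨⟨a1, a2⟩, a3⟩ := h13 y hy
    exact ⟨a1, a2, a3⟩

variable {D : LD}

theorem Good.q_gt (h : Good D) : 1 < D.q := by
  rw [← h.q]
  exact Nat.one_lt_pow h.a.ne' h.p.one_lt

/-- the order of `PSL(n, q)` -/
theorem card_psl (h : Good D) {F : Type*} [Field F] [Fintype F] (hF : Fintype.card F = D.q) :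
    Nat.gcd D.n (D.q - 1) * ((D.q - 1) * Nat.card (Matrix.ProjectiveSpecialLinearGroup (Fin D.n) F)) =
      D.q ^ (D.n * (D.n - 1) / 2) * prodl D.fac := by
  have hn := h.n
  have h1 := Cfsg.Agent.S0243.result (F := F) hF D.n (by omega)
  rw [Fin.prod_univ_eq_prod_range (fun i => D.q ^ D.n - D.q ^ i) D.n, prod_gl, ← prodQ_eq, ← h.prod] at h1
  exact h1

theorem dvd_of_dvd_card (h : Good D) {F : Type*} [Field F] [Fintype F] (hF : Fintype.card F = D.q) {t : ℕ}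
    (ht : t.Prime) (hd : t ∣ Nat.card (Matrix.ProjectiveSpecialLinearGroup (Fin D.n) F)) :
    t = D.p ∨ ∃ x ∈ D.fac, x.1 = t := by
  have h1 : t ∣ D.q ^ (D.n * (D.n - 1) / 2) * prodl D.fac := by
    rw [← card_psl h hF]
    exact (hd.mul_left _).mul_left _
  rcases ht.dvd_mul.1 h1 with h2 | h2
  · left
    have h3 := ht.dvd_of_dvd_pow h2
    rw [← h.q] at h3
    exact (Nat.prime_dvd_prime_iff_eq ht h.p).1 (ht.dvd_of_dvd_pow h3)
  · exact Or.inr (mem_of_dvd_prodl ht h.fac h2)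

/-- the primes of the list `tops` -/
theorem top_spec (h : Good D) {x : ℕ × ℕ} (hx : x ∈ D.tops) :
    (x.2).Prime ∧ 5 ≤ x.2 ∧ x.1 ≤ D.n ∧ D.n < 2 * x.1 ∧ x.2 ≠ D.p ∧ orderOf ((D.q : ℕ) : ZMod x.2) = x.1 := by
  have h1 := h.tops x hx
  unfold topB at h1
  simp only [Bool.and_eq_true, Nat.blt_eq, Nat.beq_eq, List.all_eq_true, Bool.or_eq_true, Bool.not_eq_true',
    ← Bool.not_eq_true, Nat.ble_eq, List.mem_range] at h1
  obtain ⟨⟨⟨⟨⟨a1, a2⟩, a3⟩, a4⟩, a5⟩, a6⟩ := h1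
  have hp := prime_of_isP h.ch a1
  have hone : ∀ j : ℕ, ((D.q : ℕ) : ZMod x.2) ^ j = 1 ↔ D.q ^ j % x.2 = 1 := by
    intro j
    have h3 : ((D.q ^ j : ℕ) : ZMod x.2) = ((1 : ℕ) : ZMod x.2) ↔ D.q ^ j ≡ 1 [MOD x.2] :=
      ZMod.natCast_eq_natCast_iff _ _ _
    rw [Nat.cast_pow, Nat.cast_one] at h3
    rw [h3]
    unfold Nat.ModEq
    rw [Nat.mod_eq_of_lt (show 1 < x.2 by omega)]
  have hk : 0 < x.1 := by
    have := h.n
    omega
  refine ⟨hp, by omega, a3, a4, ?_, ?_⟩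
  · intro he
    have h3 : x.2 ∣ D.q ^ x.1 := by
      rw [he, ← h.q]
      exact (dvd_pow_self D.p h.a.ne').trans (dvd_pow_self _ hk.ne')
    rw [Nat.mod_eq_zero_of_dvd h3] at a5
    omega
  · rw [orderOf_eq_iff hk]
    refine ⟨(hone _).2 a5, fun m hm hm0 hm1 => ?_⟩
    rcases a6 m hm with h3 | h3
    · omega
    · exact h3 ((hone m).1 hm1)

theorem top_dvd (h : Good D) {F : Type*} [Field F] [Fintype F] (hF : Fintype.card F = D.q) {x : ℕ × ℕ}
    (hx : x ∈ D.tops) : x.2 ∣ Nat.card (Matrix.ProjectiveSpecialLinearGroup (Fin D.n) F) := by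
  obtain ⟨a1, a2, a3, a4, a5, a6⟩ := top_spec h hx
  have hn := h.n
  have hq := h.q_gt
  have h1 : x.2 ∣ Nat.gcd D.n (D.q - 1) * ((D.q - 1) * Nat.card (Matrix.ProjectiveSpecialLinearGroup (Fin D.n) F)) := by
    rw [card_psl h hF, h.prod, prodQ_eq]
    apply Dvd.dvd.mul_left
    have h2 : x.1 - 1 ∈ Finset.range D.n := Finset.mem_range.2 (by omega)
    refine Dvd.dvd.trans ?_ (Finset.dvd_prod_of_mem _ h2)
    rw [Nat.sub_add_cancel (by omega), RelB.dvd_sub_iff hq.le, ← a6]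
    exact pow_orderOf_eq_one _
  have h3 : ¬ x.2 ∣ D.q - 1 := by
    intro h3
    have h4 := (RelB.dvd_sub_iff (u := x.2) (j := 1) hq.le).1 (by rwa [pow_one])
    rw [pow_one] at h4
    rw [h4, orderOf_one] at a6
    omega
  rcases a1.dvd_mul.1 h1 with h4 | h4
  · exact absurd (h4.trans (Nat.gcd_dvd_right _ _)) h3
  · exact (a1.dvd_mul.1 h4).resolve_left h3

/-- **The coclique.** -/
theorem coc (h : Good D) {F : Type*} [Field F] [Fintype F] (hF : Fintype.card F = D.q) :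
    Coc (Matrix.ProjectiveSpecialLinearGroup (Fin D.n) F) (D.tops.map Prod.snd).toFinset := by
  classical
  have hpf : Fact D.p.Prime := ⟨h.p⟩
  have hchar : CharP F D.p := by
    obtain ⟨p', hp'⟩ := CharP.exists F
    obtain ⟨m, hm, hc⟩ := FiniteField.card F p'
    have h1 : p' ∣ D.p ^ D.a := by
      rw [h.q, ← hF, hc]
      exact dvd_pow_self p' m.2.ne'
    have h2 := (Nat.prime_dvd_prime_iff_eq hm h.p).1 (hm.dvd_of_dvd_pow h1)
    rwa [h2] at hp'
  have hn := h.n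
  constructor
  · intro u hu
    rw [List.mem_toFinset, List.mem_map] at hu
    obtain ⟨x, hx, rfl⟩ := hu
    exact ⟨(top_spec h hx).1, top_dvd h hF hx⟩
  · -- symmetric
    have key : ∀ x ∈ D.tops, ∀ y ∈ D.tops, x.2 ≠ y.2 → x.1 ≤ y.1 →
        ¬ ∃ g : Matrix.ProjectiveSpecialLinearGroup (Fin D.n) F, orderOf g = x.2 * y.2 := by
      intro x hx y hy hxy hle
      obtain ⟨a1, a2, a3, a4, a5, a6⟩ := top_spec h hx
      obtain ⟨b1, b2, b3, b4, b5, b6⟩ := top_spec h hy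
      have hne : x.1 ≠ y.1 := by
        intro he
        have h2 := List.inj_on_of_nodup_map h.nd hx hy he
        rw [h2] at hxy
        exact hxy rfl
      refine (Cfsg.Agent.S2468.result (F := F) D.p D.n (by omega) (by omega) x.2 y.2 a1 b1 (by omega) (by omega) a5 b5
        hxy (top_dvd h hF hx) (top_dvd h hF hy) x.1 y.1 ?_ ?_ (by omega) hle).2 ⟨by omega, ?_⟩
      · rw [hF, a6]
      · rw [hF, b6]
      · rintro ⟨c, hc⟩
        have h3 : c = 1 := by
          have h4 : c < 2 := by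
            by_contra h5
            have : x.1 * 2 ≤ x.1 * c := Nat.mul_le_mul_left _ (by omega)
            omega
          have h5 : c ≠ 0 := by
            rintro rfl
            omega
          omega
        rw [h3, mul_one] at hc
        exact hne hc.symm
    intro u hu w hw huw
    rw [List.mem_toFinset, List.mem_map] at hu hw
    obtain ⟨x, hx, rfl⟩ := hu
    obtain ⟨y, hy, rfl⟩ := hw
    rcases le_total x.1 y.1 with hle | hle
    · exact key x hx y hy huw hle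
    · rw [mul_comm]
      exact key y hy x hx huw.symm hle

theorem card_coc (h : Good D) : 3 ≤ (D.tops.map Prod.snd).toFinset.card := by
  classical
  have hnd : (D.tops.map Prod.snd).Nodup := by
    rw [List.nodup_map_iff_inj_on]
    · intro x hx y hy hxy
      apply List.inj_on_of_nodup_map h.nd hx hy
      rw [← (top_spec h hx).2.2.2.2.2, ← (top_spec h hy).2.2.2.2.2, hxy]
    · exact List.Nodup.of_map _ h.nd
  rw [List.toFinset_card_of_nodup hnd, List.length_map]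
  have := h.len
  omega

/-- a prime which does not divide the order -/
theorem not_dvd_of_outB (h : Good D) {F : Type*} [Field F] [Fintype F] (hF : Fintype.card F = D.q) {v : ℕ}
    (hv : outB D v = true) : v.Prime ∧ 5 ≤ v ∧ ¬ v ∣ Nat.card (Matrix.ProjectiveSpecialLinearGroup (Fin D.n) F) := by
  unfold outB at hv
  simp only [Bool.and_eq_true, Nat.blt_eq, Nat.beq_eq, List.all_eq_true, Bool.not_eq_true', ← Bool.not_eq_true] at hv
  obtain ⟨⟨⟨a1, a2⟩, a3⟩, a4⟩ := hv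
  have hp := prime_of_isP h.ch a1
  refine ⟨hp, by omega, fun hd => ?_⟩
  rcases dvd_of_dvd_card h hF hp hd with h1 | ⟨x, hx, h1⟩
  · exact a3 h1
  · exact a4 x hx h1

/-- **The theorem.** -/
theorem main (hD : ldB D = true) {F : Type*} [Field F] [Fintype F] (hF : Fintype.card F = D.q)
    (hdisc : (∃ A : Set ℕ, (∃ r ∈ A, r.Prime ∧ r ∣ Nat.card (Matrix.ProjectiveSpecialLinearGroup (Fin D.n) F)) ∧
      (∃ s ∉ A, s.Prime ∧ s ∣ Nat.card (Matrix.ProjectiveSpecialLinearGroup (Fin D.n) F)) ∧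
      ∀ r ∈ A, ∀ s ∉ A, r.Prime → s.Prime → r ∣ Nat.card (Matrix.ProjectiveSpecialLinearGroup (Fin D.n) F) →
        s ∣ Nat.card (Matrix.ProjectiveSpecialLinearGroup (Fin D.n) F) →
        ¬ ∃ x : (Matrix.ProjectiveSpecialLinearGroup (Fin D.n) F), orderOf x = r * s))
    {G : Type*} [Group G] [Finite G]
    (h : Set.range (orderOf : G → ℕ) = Set.range (orderOf : Matrix.ProjectiveSpecialLinearGroup (Fin D.n) F → ℕ))
    (H : Subgroup G) (hH : H.IsSubnormal) (N : Subgroup ↥H) [N.Normal]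
    (hs : IsSimpleGroup (↥H ⧸ N)) (hna : ¬ IsMulCommutative (↥H ⧸ N)) (r : ℕ) (hr : r.Prime) (hrp : r ≠ D.p)
    (hlie : Cfsg.IsLieTypeChar r (↥H ⧸ N)) : r ∈ D.skip := by
  have hg := good_of_ldB hD
  have hfin : Finite (Matrix.ProjectiveSpecialLinearGroup (Fin D.n) F) := inferInstance
  obtain ⟨h1, h2⟩ := frame h hdisc H hH N hs hna
  have hsh := shape_of_lie hr hlie
  rcases dvd_of_dvd_card hg hF hr (h1 r hr hsh.chr) with h3 | ⟨x, hx, h3⟩
  · exact absurd h3 hrp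
  rcases hg.cover x hx with h4 | ⟨y, hy, h4⟩ | ⟨y, hy, h4⟩
  · rw [← h3]
    exact h4
  · exfalso
    obtain ⟨a1, a2, a3⟩ := hg.hA y hy
    rw [← h4, h3] at a1 a3
    obtain ⟨b1, b2, b3⟩ := not_dvd_of_outB hg hF a2
    exact b3 (h1 _ b1 (hsh.dvd_of_sq (by omega) b1 b2 a3))
  · exfalso
    obtain ⟨a1, a2, a3⟩ := hg.hB y hy
    rw [← h4, h3] at a2 a3
    have key : ∀ c : RC, rcB D r c = true →
        c.u ∈ (D.tops.map Prod.snd).toFinset ∧ ¬ c.u ∣ Nat.card (↥H ⧸ N) := by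
      intro c hc
      unfold rcB at hc
      simp only [Bool.and_eq_true, Nat.beq_eq, List.any_eq_true, Bool.not_eq_true', ← Bool.not_eq_true] at hc
      obtain ⟨⟨⟨⟨c1, c2⟩, ⟨t, ht, c3⟩⟩, c4⟩, c5⟩ := hc
      have hcu : (c.u).Prime := by
        rw [← c3]
        exact (top_spec hg ht).1
      refine ⟨?_, fun hd => ?_⟩
      · rw [List.mem_toFinset, List.mem_map]
        exact ⟨t, ht, c3⟩
      · obtain ⟨e1, e2, e3⟩ := rel_of_relB hg.ch hr hcu (nodup_of_nodupB c5) c4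
        obtain ⟨b1, b2, b3⟩ := not_dvd_of_outB hg hF c2
        exact b3 (h1 _ b1 (hsh.dvd hr hcu c1 e1 e2 e3 hd))
    obtain ⟨k1, k2⟩ := key _ a2
    obtain ⟨k3, k4⟩ := key _ a3
    rcases h2 _ (coc hg hF) (card_coc hg) _ k1 _ k3 a1 with h5 | h5
    · exact k2 h5
    · exact k4 h5

end Cfsg.Agent.H414.PslData
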